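import Cfsg.Agent.SympTwo.Blocks

/-!
# Block lists for unipotent classes of orthogonal groups in characteristic two

Bits now live on every cyclic block and every paired block of odd height. With the Gauss-sum sign fixed, the bit of
the lowest component is redundant, so lists are counted with that bit cleared.
-/

set_option autoImplicit false

namespace Cfsg.Agent.OrthEven

open Finset Cfsg.Agent.SympTwo

/-- The shapes allowed for a single block. -/
def OkO (a : Blk) : Prop :=
  1 ≤ a.ht ∧ (a.isV = true → Even a.ht) ∧ (a.bit = true → a.isV = false → Odd a.ht)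

/-- Normal form lists. -/
def AdmO : List Blk → Prop
  | [] => True
  | a :: R => AdmO R ∧ OkO a ∧ (∀ b ∈ R, b.ht ≤ a.ht ∧ (b.ht = a.ht → b.isV = a.isV)) ∧
      (a.bit = true → ∀ b ∈ R, ¬ Link a b)

/-- No block can carry a bit. -/
def Bare (L : List Blk) : Prop := ∀ b ∈ L, b.isV = false ∧ Even b.ht

/-- The lowest component has no bit. -/
def Low (L : List Blk) : Prop := ∀ (pre : List Blk) (a : Blk) (R : List Blk), L = pre ++ a :: R → Bare R → a.bit = false

theorem Low.suffix {P R : List Blk} (h : Low (P ++ R)) : Low R := fun pre a S e =>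
  h (P ++ pre) a S (by rw [e, List.append_assoc])

theorem mem_ok : ∀ {L : List Blk}, AdmO L → ∀ b ∈ L, OkO b
  | [], _, b, hb => by simp at hb
  | x :: L, h, b, hb => by
    rcases List.mem_cons.1 hb with rfl | hb
    · exact h.2.1
    · exact mem_ok h.1 b hb

/-- Conditions on the blocks of largest height. -/
def GrpOkO (M : ℕ) (kind bit : Bool) (R : List Blk) : Prop :=
  (kind = true → Even M) ∧ (bit = true → (kind = false → Odd M) ∧ ¬ Node (M - 1) R)

theorem split_top {M : ℕ} : ∀ {L : List Blk}, AdmO L → (∀ b ∈ L, b.ht ≤ M + 1) →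
    (∀ b ∈ L, b.ht ≤ M) ∨ ∃ (kind : Bool) (c : ℕ) (bit : Bool) (R : List Blk),
      L = grp (M + 1) kind c bit ++ R ∧ AdmO R ∧ (∀ b ∈ R, b.ht ≤ M) ∧ GrpOkO (M + 1) kind bit R
  | [], _, _ => Or.inl (by simp)
  | a :: L, h, hle => by
    obtain ⟨hL, ⟨h1, h2, h3⟩, h4, h5⟩ := h
    rcases Nat.lt_or_ge a.ht (M + 1) with hlt | hge
    · left
      intro b hb
      rcases List.mem_cons.1 hb with rfl | hb
      · omega
      · have := (h4 b hb).1; omega
    have hM : a.ht = M + 1 := le_antisymm (hle a (by simp)) hge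
    obtain ⟨m, v, t⟩ := a
    simp only at hM h1 h2 h3
    subst hM
    rcases split_top hL (fun b hb => hle b (by simp [hb])) with hsmall | ⟨kind, c, bit, R, rfl, hR, hRle, hG⟩
    · refine Or.inr ⟨v, 0, t, L, by simp [grp], hL, hsmall, h2, fun hb => ⟨h3 hb, ?_⟩⟩
      rintro ⟨b, hbm, hn⟩
      refine h5 hb b hbm ?_
      unfold Link
      rcases v with _ | _
      · have ho := h3 hb rfl
        rcases hn with ⟨-, he, hv⟩ | ⟨ho', -⟩
        · exact Or.inr (Or.inr ⟨rfl, hv, by simp only; omega⟩)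
        · simp only [Nat.odd_iff, Nat.add_sub_cancel] at ho ho'; omega
      · have he := h2 rfl
        rcases hn with ⟨he', -⟩ | ⟨-, hcase⟩
        · simp only [Nat.even_iff, Nat.add_sub_cancel] at he he'; omega
        · rcases hcase with e | ⟨e, hv⟩
          · cases hbv : b.isV
            · exact Or.inr (Or.inl ⟨rfl, Or.inr ⟨rfl, by simp only; omega⟩⟩)
            · exfalso
              have hev := (mem_ok hL b hbm).2.1 hbv
              simp only [Nat.even_iff, Nat.add_sub_cancel] at he hev e; omega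
          · exact Or.inr (Or.inl ⟨rfl, Or.inl ⟨hv, by simp only at e ⊢; omega⟩⟩)
    · have hmem : (⟨M + 1, kind, bit⟩ : Blk) ∈ grp (M + 1) kind c bit ++ R := by simp [grp]
      have hk : kind = v := (h4 _ hmem).2 rfl
      subst hk
      have ht : t = false := by
        cases t
        · rfl
        · exact absurd (Or.inl rfl) (h5 rfl (⟨M + 1, kind, bit⟩ : Blk) hmem)
      subst ht
      exact Or.inr ⟨kind, c + 1, bit, R, by simp [grp, List.replicate_succ], hR, hRle, hG⟩

/-- Bounds for the weighted numbers of lists with a node, bare, and others. -/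
def ABC : ℕ → ℚ × ℚ × ℚ
  | 0 => (0, 1, 0)
  | M + 1 =>
    if Even (M + 1) then
      (vF (M + 1) * ((ABC M).1 + (ABC M).2.1 + 2 * (ABC M).2.2), (1 + wF (M + 1)) * (ABC M).2.1,
        (1 + wF (M + 1)) * ((ABC M).1 + (ABC M).2.2))
    else ((ABC M).1 + wF (M + 1) * ((ABC M).1 + (ABC M).2.1 + 2 * (ABC M).2.2), (ABC M).2.1, (ABC M).2.2)

theorem sum_union_le (a b : Finset (List Blk)) : ∑ L ∈ a ∪ b, sw L ≤ ∑ L ∈ a, sw L + ∑ L ∈ b, sw L := by
  rw [← sum_union_inter]
  exact le_add_of_nonneg_right (sum_nonneg fun L _ => sw_nonneg L)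

theorem sum_le_two (t a b : Finset (List Blk)) (h : ∀ L ∈ t, L ∈ a ∨ L ∈ b) :
    ∑ L ∈ t, sw L ≤ ∑ L ∈ a, sw L + ∑ L ∈ b, sw L :=
  (sum_le_sum_of_subset_of_nonneg (t := a ∪ b) (fun L hL => mem_union.2 (h L hL)) fun L _ _ => sw_nonneg L).trans
    (sum_union_le a b)

theorem sum_le_three (t a b c : Finset (List Blk)) (h : ∀ L ∈ t, L ∈ a ∨ L ∈ b ∨ L ∈ c) :
    ∑ L ∈ t, sw L ≤ ∑ L ∈ a, sw L + ∑ L ∈ b, sw L + ∑ L ∈ c, sw L := by
  refine (sum_le_two t a (b ∪ c) fun L hL => ?_).trans ?_
  · rw [mem_union]; exact h L hL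
  · rw [add_assoc]; exact add_le_add le_rfl (sum_union_le b c)

theorem bare_append {M : ℕ} {kind bit : Bool} {c : ℕ} {R : List Blk} :
    Bare (grp M kind c bit ++ R) ↔ kind = false ∧ Even M ∧ Bare R := by
  constructor
  · intro h
    obtain ⟨h1, h2⟩ := h ⟨M, kind, bit⟩ (by simp [grp])
    exact ⟨h1, h2, fun b hb => h b (List.mem_append_right _ hb)⟩
  · rintro ⟨h1, h2, h3⟩ b hb
    rcases List.mem_append.1 hb with hb | hb
    · simp only [grp, List.mem_append, List.mem_replicate, List.mem_singleton] at hb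
      rcases hb with ⟨-, rfl⟩ | rfl <;> exact ⟨h1, h2⟩
    · exact h3 b hb

theorem node_append_low {M : ℕ} {kind bit : Bool} {c : ℕ} {R : List Blk} (hR : ∀ b ∈ R, b.ht ≤ M) :
    Node (M + 1) (grp (M + 1) kind c bit ++ R) ↔ (Even (M + 1) ∧ kind = true) ∨ Odd (M + 1) := by
  constructor
  · rintro ⟨b, hb, ⟨he, e, hv⟩ | ⟨ho, -⟩⟩
    · rcases List.mem_append.1 hb with hb | hb
      · simp only [grp, List.mem_append, List.mem_replicate, List.mem_singleton] at hb
        rcases hb with ⟨-, rfl⟩ | rfl <;> exact Or.inl ⟨he, hv⟩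
      · have := hR b hb; omega
    · exact Or.inr ho
  · rintro (⟨he, rfl⟩ | ho)
    · exact ⟨⟨M + 1, true, bit⟩, by simp [grp], Or.inl ⟨he, rfl, rfl⟩⟩
    · exact ⟨⟨M + 1, kind, bit⟩, by simp [grp], Or.inr ⟨ho, Or.inl rfl⟩⟩

open scoped Classical in
theorem sums_le : ∀ (M : ℕ) (s : Finset (List Blk)), (∀ L ∈ s, AdmO L ∧ Low L ∧ ∀ b ∈ L, b.ht ≤ M) →
    ∑ L ∈ s.filter (Node M), sw L ≤ (ABC M).1 ∧
      ∑ L ∈ s.filter (fun L => ¬ Node M L ∧ Bare L), sw L ≤ (ABC M).2.1 ∧
      ∑ L ∈ s.filter (fun L => ¬ Node M L ∧ ¬ Bare L), sw L ≤ (ABC M).2.2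
  | 0, s, hs => by
    have hnil : ∀ L ∈ s, L = [] := by
      intro L hL
      rcases L with _ | ⟨b, L⟩
      · rfl
      · obtain ⟨⟨-, h, -⟩, -, hle⟩ := hs _ hL
        have := hle b (by simp); have := h.1; omega
    refine ⟨?_, ?_, ?_⟩
    · rw [Finset.filter_eq_empty_iff.2 fun L hL => by rw [hnil L hL]; simp [Node]]
      simp [ABC]
    · refine (sum_le_sum_of_subset_of_nonneg (t := {[]})
        (fun L hL => mem_singleton.2 (hnil L (mem_of_mem_filter _ hL))) fun L _ _ => sw_nonneg L).trans ?_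
      simp [ABC, sw, wts]
    · rw [Finset.filter_eq_empty_iff.2 fun L hL => by rw [hnil L hL]; simp [Bare]]
      simp [ABC]
  | M + 1, s, hs => by
    let tail : List Blk → List Blk := fun L => L.filter fun b => decide (b.ht ≤ M)
    set S := s.image tail with hS
    have htail : ∀ {kind : Bool} {c : ℕ} {bit : Bool} {R : List Blk}, (∀ b ∈ R, b.ht ≤ M) →
        tail (grp (M + 1) kind c bit ++ R) = R := by
      intro kind c bit R hR
      simp only [tail, List.filter_append]
      have h1 : (grp (M + 1) kind c bit).filter (fun b => decide (b.ht ≤ M)) = [] := by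
        refine List.filter_eq_nil_iff.2 fun b hb => ?_
        simp only [grp, List.mem_append, List.mem_replicate, List.mem_singleton] at hb
        rcases hb with ⟨-, rfl⟩ | rfl <;> simp
      have h2 : R.filter (fun b => decide (b.ht ≤ M)) = R :=
        List.filter_eq_self.2 fun b hb => by simpa using hR b hb
      rw [h1, h2, List.nil_append]
    have hdec : ∀ L ∈ s, (L ∈ S ∧ (∀ b ∈ L, b.ht ≤ M)) ∨ ∃ kind c bit, ∃ R ∈ S, L = grp (M + 1) kind c bit ++ R ∧
        GrpOkO (M + 1) kind bit R ∧ (bit = true → ¬ Bare R) ∧ ∀ b ∈ R, b.ht ≤ M := by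
      intro L hL
      rcases split_top (hs L hL).1 (hs L hL).2.2 with h | ⟨kind, c, bit, R, rfl, hR, hRle, hG⟩
      · exact Or.inl ⟨mem_image.2 ⟨L, hL, List.filter_eq_self.2 fun b hb => by simpa using h b hb⟩, h⟩
      · refine Or.inr ⟨kind, c, bit, R, mem_image.2 ⟨_, hL, htail hRle⟩, rfl, hG, fun hb hR' => ?_, hRle⟩
        have := (hs _ hL).2.1 (List.replicate c ⟨M + 1, kind, false⟩) ⟨M + 1, kind, bit⟩ R (by simp [grp]) hR'
        simp [hb] at this
    have hSok : ∀ L ∈ S, AdmO L ∧ Low L ∧ ∀ b ∈ L, b.ht ≤ M := by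
      intro R hR
      obtain ⟨L, hL, rfl⟩ := mem_image.1 hR
      rcases split_top (hs L hL).1 (hs L hL).2.2 with h | ⟨kind, c, bit, R, rfl, hR, hRle, -⟩
      · rw [show tail L = L from List.filter_eq_self.2 fun b hb => by simpa using h b hb]
        exact ⟨(hs L hL).1, (hs L hL).2.1, h⟩
      · rw [htail hRle]; exact ⟨hR, (hs _ hL).2.1.suffix, hRle⟩
    obtain ⟨ihA, ihB, ihC⟩ := sums_le M S hSok
    have hall : ∑ L ∈ S, sw L ≤ (ABC M).1 + (ABC M).2.1 + (ABC M).2.2 := by
      refine (sum_le_three S (S.filter (Node M)) (S.filter fun L => ¬ Node M L ∧ Bare L)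
        (S.filter fun L => ¬ Node M L ∧ ¬ Bare L) fun L hL => ?_).trans (add_le_add (add_le_add ihA ihB) ihC)
      simp only [mem_filter, hL, true_and]
      tauto
    have hw0 : 0 ≤ wF (M + 1) := geo_nonneg (by positivity) (half_lt (by omega))
    have hnonbare : ∑ L ∈ S.filter (fun L => ¬ Bare L), sw L ≤ (ABC M).1 + (ABC M).2.2 := by
      refine (sum_le_two _ (S.filter (Node M)) (S.filter fun L => ¬ Node M L ∧ ¬ Bare L) fun L hL => ?_).trans
        (add_le_add ihA ihC)
      simp only [mem_filter] at hL ⊢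
      tauto
    let P : Bool → Bool → Finset (List Blk) := fun kind bit =>
      s.filter fun L => ∃ c, ∃ R ∈ S, L = grp (M + 1) kind c bit ++ R ∧ GrpOkO (M + 1) kind bit R ∧
        (bit = true → ¬ Bare R) ∧ ∀ b ∈ R, b.ht ≤ M
    have hshape : ∀ kind bit (T : Finset (List Blk)) (u : Finset (List Blk)), (kind = true → 2 ≤ M + 1) →
        (∀ L ∈ u, ∃ c, ∃ R ∈ T, L = grp (M + 1) kind c bit ++ R) →
        ∑ L ∈ u, sw L ≤ (if kind then vF (M + 1) else wF (M + 1)) * ∑ R ∈ T, sw R :=
      fun kind bit T u hk hu => sum_shape_le (Nat.succ_pos M) kind bit hk u T hu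
    have hgrp : ∀ kind, (kind = true → 2 ≤ M + 1) → (0 : ℚ) ≤ (if kind then vF (M + 1) else wF (M + 1)) →
        ∑ L ∈ P kind false ∪ P kind true, sw L ≤ (if kind then vF (M + 1) else wF (M + 1)) *
          ((ABC M).1 + (ABC M).2.1 + 2 * (ABC M).2.2) := by
      intro kind hk h0
      refine (sum_union_le _ _).trans ?_
      have h1 := (hshape kind false S (P kind false) hk fun L hL => by
        obtain ⟨-, c, R, hR, e, -⟩ := mem_filter.1 hL; exact ⟨c, R, hR, e⟩).trans (mul_le_mul_of_nonneg_left hall h0)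
      have h2 := (hshape kind true (S.filter fun L => ¬ Node M L ∧ ¬ Bare L) (P kind true) hk fun L hL => by
        obtain ⟨-, c, R, hR, e, hG, hB, -⟩ := mem_filter.1 hL
        exact ⟨c, R, mem_filter.2 ⟨hR, by simpa using (hG.2 rfl).2, hB rfl⟩, e⟩).trans
          (mul_le_mul_of_nonneg_left ihC h0)
      linarith
    by_cases hev : Even (M + 1)
    · have hM2 : 2 ≤ M + 1 := by rw [Nat.even_iff] at hev; omega
      have hno : ¬ Odd (M + 1) := Nat.not_odd_iff_even.2 hev
      have hv0 : 0 ≤ vF (M + 1) := geo_nonneg (by positivity) (half_lt (by omega))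
      simp only [ABC, if_pos hev]
      refine ⟨?_, ?_, ?_⟩
      · refine (sum_le_sum_of_subset_of_nonneg (t := P true false ∪ P true true) ?_ fun L _ _ => sw_nonneg L).trans
          ((hgrp true (fun _ => hM2) hv0).trans (le_of_eq (by simp)))
        intro L hL
        obtain ⟨hLs, hN⟩ := mem_filter.1 hL
        rcases hdec L hLs with ⟨-, hlow⟩ | ⟨kind, c, bit, R, hR, rfl, hG, hB, hRle⟩
        · exact absurd (node_low hlow hN).1 hno
        · obtain ⟨-, hk⟩ | ho := (node_append_low hRle).1 hN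
          · subst hk
            rw [mem_union]
            cases bit
            · exact Or.inl (mem_filter.2 ⟨hLs, c, R, hR, rfl, hG, hB, hRle⟩)
            · exact Or.inr (mem_filter.2 ⟨hLs, c, R, hR, rfl, hG, hB, hRle⟩)
          · exact absurd ho hno
      · refine (sum_le_two _ (S.filter fun L => ¬ Node M L ∧ Bare L)
          ((P false false).filter fun L => Bare L) ?_).trans ?_
        · intro L hL
          obtain ⟨hLs, hN, hBare⟩ := mem_filter.1 hL
          rcases hdec L hLs with ⟨hLS, -⟩ | ⟨kind, c, bit, R, hR, rfl, hG, hB, hRle⟩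
          · refine Or.inl (mem_filter.2 ⟨hLS, ?_, hBare⟩)
            rintro ⟨b, hb, ⟨he, -⟩ | ⟨-, h⟩⟩
            · rw [Nat.even_iff] at he hev; omega
            · obtain ⟨hv, hbe⟩ := hBare b hb
              rcases h with e | ⟨-, e⟩
              · rw [e, Nat.even_iff] at hbe; rw [Nat.even_iff] at hev; omega
              · simp [hv] at e
          · obtain ⟨rfl, -, -⟩ := bare_append.1 hBare
            cases bit
            · exact Or.inr (mem_filter.2 ⟨mem_filter.2 ⟨hLs, c, R, hR, rfl, hG, hB, hRle⟩, hBare⟩)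
            · exact absurd ((hG.2 rfl).1 rfl) hno
        · have h1 := (hshape false false (S.filter fun L => ¬ Node M L ∧ Bare L) ((P false false).filter fun L => Bare L)
            (fun h => absurd h (by simp)) fun L hL => by
            obtain ⟨hL', hBare⟩ := mem_filter.1 hL
            obtain ⟨-, c, R, hR, e, -, -, hRle⟩ := mem_filter.1 hL'
            rw [e] at hBare
            obtain ⟨-, -, hRB⟩ := bare_append.1 hBare
            refine ⟨c, R, mem_filter.2 ⟨hR, ?_, hRB⟩, e⟩
            rintro ⟨b, hb, ⟨he, -⟩ | ⟨-, h⟩⟩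
            · rw [Nat.even_iff] at he hev; omega
            · obtain ⟨hv, hbe⟩ := hRB b hb
              rcases h with e | ⟨-, e⟩
              · rw [e, Nat.even_iff] at hbe; rw [Nat.even_iff] at hev; omega
              · simp [hv] at e).trans (mul_le_mul_of_nonneg_left ihB hw0)
          simp only [Bool.false_eq_true, if_false] at h1
          linarith
      · refine (sum_le_two _ (S.filter fun L => ¬ Bare L) ((P false false).filter fun L => ¬ Bare L) ?_).trans ?_
        · intro L hL
          obtain ⟨hLs, hN, hBare⟩ := mem_filter.1 hL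
          rcases hdec L hLs with ⟨hLS, -⟩ | ⟨kind, c, bit, R, hR, rfl, hG, hB, hRle⟩
          · exact Or.inl (mem_filter.2 ⟨hLS, hBare⟩)
          · cases kind
            · cases bit
              · exact Or.inr (mem_filter.2 ⟨mem_filter.2 ⟨hLs, c, R, hR, rfl, hG, hB, hRle⟩, hBare⟩)
              · exact absurd ((hG.2 rfl).1 rfl) hno
            · exact absurd ((node_append_low hRle).2 (Or.inl ⟨hev, rfl⟩)) hN
        · have h1 := (hshape false false (S.filter fun L => ¬ Bare L) ((P false false).filter fun L => ¬ Bare L)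
            (fun h => absurd h (by simp)) fun L hL => by
            obtain ⟨hL', hBare⟩ := mem_filter.1 hL
            obtain ⟨-, c, R, hR, e, -⟩ := mem_filter.1 hL'
            rw [e] at hBare
            exact ⟨c, R, mem_filter.2 ⟨hR, fun h => hBare (bare_append.2 ⟨rfl, hev, h⟩)⟩, e⟩).trans
              (mul_le_mul_of_nonneg_left hnonbare hw0)
          simp only [Bool.false_eq_true, if_false] at h1
          linarith
    · have hodd : Odd (M + 1) := Nat.not_even_iff_odd.1 hev
      have hMev : ∀ {R : List Blk}, (∃ b ∈ R, b.ht = M ∧ b.isV = true) → Node M R := fun ⟨b, hb, e, hv⟩ =>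
        ⟨b, hb, Or.inl ⟨by rw [Nat.even_iff]; rw [Nat.odd_iff] at hodd; omega, e, hv⟩⟩
      have hlowcase : ∀ L ∈ s, ¬ Node (M + 1) L → L ∈ S ∧ ¬ Node M L := by
        intro L hL hN
        rcases hdec L hL with ⟨hLS, -⟩ | ⟨kind, c, bit, R, hR, rfl, hG, hB, hRle⟩
        · refine ⟨hLS, fun hn => hN ?_⟩
          obtain ⟨b, hb, ⟨-, e, hv⟩ | ⟨ho, -⟩⟩ := hn
          · exact ⟨b, hb, Or.inr ⟨hodd, Or.inr ⟨by omega, hv⟩⟩⟩
          · rw [Nat.odd_iff] at ho hodd; omega
        · exact absurd ((node_append_low hRle).2 (Or.inr hodd)) hN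
      simp only [ABC, if_neg hev]
      refine ⟨?_, ?_, ?_⟩
      · refine (sum_le_two _ (S.filter (Node M)) (P false false ∪ P false true) ?_).trans ?_
        · intro L hL
          obtain ⟨hLs, hN⟩ := mem_filter.1 hL
          rcases hdec L hLs with ⟨hLS, hlow⟩ | ⟨kind, c, bit, R, hR, rfl, hG, hB, hRle⟩
          · exact Or.inl (mem_filter.2 ⟨hLS, hMev (node_low hlow hN).2⟩)
          · cases kind
            · rw [mem_union]
              cases bit
              · exact Or.inr (Or.inl (mem_filter.2 ⟨hLs, c, R, hR, rfl, hG, hB, hRle⟩))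
              · exact Or.inr (Or.inr (mem_filter.2 ⟨hLs, c, R, hR, rfl, hG, hB, hRle⟩))
            · exact absurd (hG.1 rfl) hev
        · have h1 := hgrp false (fun h => absurd h (by simp)) hw0
          simp only [Bool.false_eq_true, if_false] at h1
          linarith
      · refine (sum_le_sum_of_subset_of_nonneg (t := S.filter fun L => ¬ Node M L ∧ Bare L) ?_
          fun L _ _ => sw_nonneg L).trans ihB
        intro L hL
        obtain ⟨hLs, hN, hB⟩ := mem_filter.1 hL
        exact mem_filter.2 ⟨(hlowcase L hLs hN).1, (hlowcase L hLs hN).2, hB⟩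
      · refine (sum_le_sum_of_subset_of_nonneg (t := S.filter fun L => ¬ Node M L ∧ ¬ Bare L) ?_
          fun L _ _ => sw_nonneg L).trans ihC
        intro L hL
        obtain ⟨hLs, hN, hB⟩ := mem_filter.1 hL
        exact mem_filter.2 ⟨(hlowcase L hLs hN).1, (hlowcase L hLs hN).2, hB⟩

/-- The total of the three bounds. -/
def tot (M : ℕ) : ℚ := (ABC M).1 + (ABC M).2.1 + (ABC M).2.2

theorem tot_base : tot 24 * (1 + 4 * (1 / 2 : ℚ) ^ 12) ≤ 15 := by decide +kernel

theorem ABC_nonneg : ∀ M, 0 ≤ (ABC M).1 ∧ 0 ≤ (ABC M).2.1 ∧ 0 ≤ (ABC M).2.2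
  | 0 => by simp [ABC]
  | M + 1 => by
    obtain ⟨a, b, c⟩ := ABC_nonneg M
    have hw : 0 ≤ wF (M + 1) := geo_nonneg (by positivity) (half_lt (by omega))
    by_cases h : Even (M + 1)
    · have hv : 0 ≤ vF (M + 1) := geo_nonneg (by positivity) (half_lt (by rw [Nat.even_iff] at h; omega))
      simp only [ABC, if_pos h]
      exact ⟨by positivity, by positivity, by positivity⟩
    · simp only [ABC, if_neg h]
      exact ⟨by positivity, b, c⟩

theorem tot_tail : ∀ K, tot (2 * (K + 12)) * (1 + 4 * (1 / 2 : ℚ) ^ (K + 12)) ≤ 15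
  | 0 => tot_base
  | K + 1 => by
    have ih := tot_tail K
    set k := K + 12 with hk
    rw [show 2 * (K + 1 + 12) = 2 * k + 1 + 1 by omega, show K + 1 + 12 = k + 1 by omega]
    set d := (1 / 2 : ℚ) ^ k with hd
    have hd0 : 0 ≤ d := by positivity
    have hd1 : d ≤ 1 / 4096 := by
      calc d ≤ (1 / 2 : ℚ) ^ 12 := pow_le_pow_of_le_one (by norm_num) (by norm_num) (by omega)
        _ = 1 / 4096 := by norm_num
    have e1 : ¬ Even (2 * k + 1) := by simp [parity_simps]
    have e2 : Even (2 * k + 1 + 1) := by simp [parity_simps]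
    have hgeo : ∀ y : ℚ, 0 ≤ y → y ≤ 1 / 2 → geo y ≤ y + 2 * y ^ 2 := by
      intro y h0 h1
      rw [geo, div_le_iff₀ (by linarith)]
      nlinarith [mul_nonneg h0 h0]
    have w1 : wF (2 * k + 1) ≤ d ^ 2 := by
      rw [wF, show (1 / 2 : ℚ) ^ (2 * k + 1) = d ^ 2 / 2 by rw [pow_succ, mul_comm 2 k, pow_mul]; ring]
      refine (hgeo _ (by positivity) (by nlinarith)).trans ?_
      nlinarith [mul_le_mul_of_nonneg_left hd1 hd0, mul_nonneg hd0 hd0]
    have w2 : wF (2 * k + 1 + 1) ≤ d ^ 2 := by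
      rw [wF, show (1 / 2 : ℚ) ^ (2 * k + 1 + 1) = d ^ 2 / 4 by rw [pow_succ, pow_succ, mul_comm 2 k, pow_mul]; ring]
      refine (hgeo _ (by positivity) (by nlinarith)).trans ?_
      nlinarith [mul_le_mul_of_nonneg_left hd1 hd0, mul_nonneg hd0 hd0]
    have v2 : vF (2 * k + 1 + 1) ≤ d / 2 + d ^ 2 := by
      rw [vF, show (2 * k + 1 + 1) / 2 = k + 1 by omega, pow_succ, ← hd]
      refine (hgeo _ (by positivity) (by linarith)).trans ?_
      nlinarith
    obtain ⟨a, b, c⟩ := ABC_nonneg (2 * k)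
    obtain ⟨a', b', c'⟩ := ABC_nonneg (2 * k + 1)
    have T00 : 0 ≤ tot (2 * k) := by unfold tot; positivity
    have t1 : tot (2 * k + 1) ≤ tot (2 * k) * (1 + 2 * d ^ 2) := by
      simp only [tot, ABC, if_neg e1]
      nlinarith [mul_le_mul_of_nonneg_left w1 a, mul_le_mul_of_nonneg_left w1 b, mul_le_mul_of_nonneg_left w1 c]
    have t2 : tot (2 * k + 1 + 1) ≤ tot (2 * k + 1) * (1 + d + 3 * d ^ 2) := by
      rw [tot, tot, ABC]
      simp only [if_pos e2]
      generalize (ABC (2 * k + 1)).1 = p at a' ⊢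
      generalize (ABC (2 * k + 1)).2.1 = r at b' ⊢
      generalize (ABC (2 * k + 1)).2.2 = u at c' ⊢
      nlinarith [mul_le_mul_of_nonneg_left v2 a', mul_le_mul_of_nonneg_left v2 b', mul_le_mul_of_nonneg_left v2 c',
        mul_le_mul_of_nonneg_left w2 (add_nonneg (add_nonneg a' b') c')]
    have hfac : (1 + 2 * d ^ 2) * (1 + d + 3 * d ^ 2) * (1 + 4 * (1 / 2 : ℚ) ^ (k + 1)) ≤ 1 + 4 * d := by
      rw [pow_succ (1 / 2 : ℚ) k, ← hd]
      nlinarith [mul_le_mul_of_nonneg_left hd1 hd0, mul_nonneg hd0 hd0,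
        mul_le_mul_of_nonneg_left hd1 (mul_nonneg hd0 hd0),
        mul_le_mul_of_nonneg_left hd1 (pow_nonneg hd0 3), mul_le_mul_of_nonneg_left hd1 (pow_nonneg hd0 4),
        pow_nonneg hd0 3, pow_nonneg hd0 4]
    refine (mul_le_mul_of_nonneg_right (t2.trans (mul_le_mul_of_nonneg_right t1 (by positivity)))
      (by positivity)).trans (le_trans ?_ ih)
    rw [mul_assoc, mul_assoc, ← mul_assoc (1 + 2 * d ^ 2)]
    exact mul_le_mul_of_nonneg_left hfac T00

/-- The weighted number of normal forms of one type is at most `15`. -/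
theorem sum_sw_le (s : Finset (List Blk)) (hs : ∀ L ∈ s, AdmO L ∧ Low L) : ∑ L ∈ s, sw L ≤ 15 := by
  classical
  set K := s.sup fun L => (L.map Blk.ht).sum
  have hb : ∀ L ∈ s, ∀ b ∈ L, b.ht ≤ 2 * (K + 12) := by
    intro L hL b hb
    have h1 : (L.map Blk.ht).sum ≤ K := le_sup (f := fun L => (L.map Blk.ht).sum) hL
    have h2 : b.ht ≤ (L.map Blk.ht).sum := List.le_sum_of_mem (List.mem_map.2 ⟨b, hb, rfl⟩)
    omega
  obtain ⟨h1, h2, h3⟩ := sums_le (2 * (K + 12)) s fun L hL => ⟨(hs L hL).1, (hs L hL).2, hb L hL⟩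
  refine (sum_le_three s _ _ _ fun L hL => ?_).trans
    ((add_le_add (add_le_add h1 h2) h3).trans (le_trans ?_ (tot_tail K)))
  · simp only [mem_filter, hL, true_and]; tauto
  · exact le_mul_of_one_le_right (by obtain ⟨a, b, c⟩ := ABC_nonneg (2 * (K + 12)); positivity)
      (le_add_of_nonneg_right (by positivity))

/-! ## Clearing the redundant bit -/

open scoped Classical in
/-- Clears the bit of the lowest component. -/
noncomputable def clr : List Blk → List Blk
  | [] => []
  | a :: R => if Bare R then ⟨a.ht, a.isV, false⟩ :: R else a :: clr R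

theorem bare_clr : ∀ L : List Blk, Bare (clr L) ↔ Bare L
  | [] => Iff.rfl
  | a :: R => by
    rw [clr]
    split_ifs with h
    · simp [Bare]
    · simp only [Bare, List.mem_cons, forall_eq_or_imp]
      exact and_congr Iff.rfl (bare_clr R)

theorem wts_clr : ∀ L : List Blk, wts (clr L) = wts L
  | [] => rfl
  | a :: R => by
    rw [clr]
    split_ifs with h
    · rfl
    · have := wts_clr R
      simp only [wts, List.map_cons, List.sum_cons] at this ⊢
      rw [this]

theorem clr_bit_free : ∀ {L : List Blk}, AdmO L → Bare L → ∀ b ∈ L, b.bit = false := by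
  intro L hL hB b hb
  cases hbb : b.bit
  · rfl
  · exact absurd ((mem_ok hL b hb).2.2 hbb (hB b hb).1) (Nat.not_odd_iff_even.2 (hB b hb).2)

theorem mem_clr : ∀ {L : List Blk} {b : Blk}, b ∈ clr L →
    ∃ b' ∈ L, b.ht = b'.ht ∧ b.isV = b'.isV ∧ (b.bit = true → b'.bit = true)
  | [], b, hb => by simp [clr] at hb
  | a :: R, b, hb => by
    rw [clr] at hb
    split_ifs at hb with h
    · rcases List.mem_cons.1 hb with rfl | hb
      · exact ⟨a, by simp, rfl, rfl, fun h => by simp at h⟩
      · exact ⟨b, by simp [hb], rfl, rfl, id⟩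
    · rcases List.mem_cons.1 hb with rfl | hb
      · exact ⟨b, by simp, rfl, rfl, id⟩
      · obtain ⟨b', h1, h2⟩ := mem_clr hb
        exact ⟨b', by simp [h1], h2⟩

theorem admO_clr : ∀ {L : List Blk}, AdmO L → AdmO (clr L)
  | [], _ => trivial
  | a :: R, ⟨hR, ⟨o1, o2, o3⟩, h4, h5⟩ => by
    rw [clr]
    split_ifs with h
    · exact ⟨hR, ⟨o1, o2, fun hb => by simp at hb⟩, h4, fun hb => by simp at hb⟩
    · refine ⟨admO_clr hR, ⟨o1, o2, o3⟩, fun b hb => ?_, fun hb b hb' hl => ?_⟩
      · obtain ⟨b', h1, e1, e2, -⟩ := mem_clr hb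
        rw [e1, e2]; exact h4 b' h1
      · obtain ⟨b', h1, e1, e2, -⟩ := mem_clr hb'
        refine h5 hb b' h1 ?_
        rwa [Link, ← e1, ← e2]

theorem low_clr : ∀ {L : List Blk}, AdmO L → Low (clr L)
  | [], _ => fun pre a R e => by simp [clr] at e
  | a :: R, h => fun pre b S e hS => by
    rw [clr] at e
    split_ifs at e with hR
    · rcases pre with _ | ⟨p, pre⟩
      · simp only [List.nil_append, List.cons.injEq] at e
        rw [← e.1]
      · simp only [List.cons_append, List.cons.injEq] at e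
        exact clr_bit_free h.1 hR b (by rw [e.2]; simp)
    · rcases pre with _ | ⟨p, pre⟩
      · simp only [List.nil_append, List.cons.injEq] at e
        rw [← e.2, bare_clr] at hS
        exact absurd hS hR
      · simp only [List.cons_append, List.cons.injEq] at e
        exact low_clr h.1 pre b S e.2 hS

/-- The number of bits, modulo two. -/
def par (L : List Blk) : Bool := L.foldr (fun a x => xor a.bit x) false

theorem clr_inj : ∀ {L L' : List Blk}, clr L = clr L' → par L = par L' → L = L'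
  | [], L', e, _ => by
    rcases L' with _ | ⟨a, R⟩
    · rfl
    · rw [clr, clr] at e; split_ifs at e
  | a :: R, [], e, _ => by rw [clr, clr] at e; split_ifs at e
  | a :: R, a' :: R', e, hp => by
    simp only [par, List.foldr_cons] at hp
    rw [clr, clr] at e
    split_ifs at e with h h' h'
    · simp only [List.cons.injEq, Blk.mk.injEq] at e
      obtain ⟨⟨e1, e2, -⟩, rfl⟩ := e
      obtain ⟨m, v, t⟩ := a
      obtain ⟨m', v', t'⟩ := a'
      simp only at e1 e2 hp
      subst e1 e2
      have : t = t' := by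
        revert hp; cases t <;> cases t' <;> simp
      rw [this]
    · simp only [List.cons.injEq] at e
      obtain ⟨-, rfl⟩ := e
      exact absurd ((bare_clr R').1 h) h'
    · simp only [List.cons.injEq] at e
      obtain ⟨-, rfl⟩ := e
      exact absurd ((bare_clr R).1 h') h
    · simp only [List.cons.injEq] at e
      obtain ⟨rfl, e⟩ := e
      rw [clr_inj e (by revert hp; simp only [par]; cases a.bit <;> simp)]

end Cfsg.Agent.OrthEven
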