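import Cfsg.Agent.SympTwo.Piece
import Cfsg.Agent.OrthEven.Blocks

/-!
# Unipotent isometries of quadratic forms in characteristic two

The values of the form fit in front of the data `Ctx.f`: `g x 0 = Q x` and `g x (j + 1) = f x j`.
-/

set_option autoImplicit false

namespace Cfsg.Agent.OrthEven

open Module Finset Cfsg.Agent.SympTwo

universe u v w

/-- A unipotent isometry of a quadratic form in characteristic two. -/
structure OCtx (F : Type u) [Field F] (V : Type v) [AddCommGroup V] [Module F V] extends Ctx F V where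
  Q : V → F
  Qsmul : ∀ (c : F) x, Q (c • x) = c ^ 2 * Q x
  Qadd : ∀ x y, Q (x + y) = Q x + Q y + B x y
  Qφ : ∀ x, Q (φ x) = Q x

variable {F : Type u} [Field F] {V : Type v} [AddCommGroup V] [Module F V]

namespace OCtx

variable (O : OCtx F V)

/-- The data of the form. -/
def g (x : V) : ℕ → F
  | 0 => O.Q x
  | j + 1 => O.f x j

theorem g_succ (x : V) (j : ℕ) : O.g x (j + 1) = O.f x j := rfl

theorem g_zero (x : V) : O.g x 0 = O.Q x := rfl

theorem Q_zero : O.Q 0 = 0 := by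
  have := O.Qsmul 0 0
  rwa [zero_smul, zero_pow (by norm_num), zero_mul] at this

theorem g_add (x y : V) (J : ℕ) : O.g (x + y) J = O.g x J + O.g y J + O.B ((O.Z ^ J) x) y := by
  rcases J with _ | j
  · exact O.Qadd x y
  · exact O.f_add x y j

theorem g_smul (c : F) (x : V) (J : ℕ) : O.g (c • x) J = c ^ 2 * O.g x J := by
  rcases J with _ | j
  · exact O.Qsmul c x
  · exact O.f_smul c x j

theorem g_zero_vec (J : ℕ) : O.g 0 J = 0 := by
  rcases J with _ | j
  · exact O.Q_zero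
  · exact O.f_zero j

theorem Q_W (x : V) : O.Q (O.W x) = O.Q x := by
  conv_rhs => rw [← O.φ_W x, O.Qφ]

theorem Q_N (x : V) : O.Q (O.N x) = O.f x 0 := by
  rw [O.N_apply, O.Qadd, O.Qφ, O.add_self, zero_add]
  rfl

theorem g_N (x : V) (J : ℕ) : O.g (O.N x) J = O.g x (J + 1) := by
  rcases J with _ | j
  · exact O.Q_N x
  · exact O.f_N x j

theorem Q_Z (x : V) : O.Q (O.Z x) = O.f x 1 := by
  rw [O.Z_apply, O.Qadd, O.Qφ, O.Q_W, O.add_self, zero_add]
  show _ = O.B (O.φ ((O.Z ^ 1) x)) x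
  rw [← O.adjφ, pow_one, O.Z_apply, map_add, O.φ_W, map_add, LinearMap.add_apply, O.alt, add_zero]

theorem g_Zpow : ∀ (i : ℕ) (x : V) (J : ℕ), O.g ((O.Z ^ i) x) J = O.g x (J + 2 * i)
  | 0, x, J => by simp
  | i + 1, x, J => by
    rw [pow_succ, Module.End.mul_apply, g_Zpow i]
    have h : ∀ K, O.g (O.Z x) K = O.g x (K + 2) := fun K => by
      rcases K with _ | k
      · exact O.Q_Z x
      · rw [g_succ, show k + 1 + 2 = (k + 2) + 1 by omega, g_succ]
        simpa using O.f_Zpow 1 x k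
    rw [h]
    congr 1

theorem g_comb (L : ℕ) (p : ℕ → F) (w : V) (J : ℕ) :
    O.g (O.comb L p w) J = ∑ i ∈ range L, p i ^ 2 * O.g w (J + 2 * i) := by
  induction L with
  | zero => simp [Ctx.comb, g_zero_vec]
  | succ L ih =>
    rw [Ctx.comb, sum_range_succ, sum_range_succ, g_add, ← Ctx.comb, ih, g_smul, g_Zpow]
    simp only [Ctx.comb, map_sum, map_smul, LinearMap.sum_apply, LinearMap.smul_apply, smul_eq_mul,
      ← Module.End.mul_apply, ← pow_add, O.Zpow_merge, O.Zpow_alt, mul_zero, sum_const_zero, add_zero]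

theorem g_add_comb (L : ℕ) (p : ℕ → F) (x w : V) (J : ℕ) :
    O.g (x + O.comb L p w) J = O.g x J + ∑ i ∈ range L, p i ^ 2 * O.g w (J + 2 * i) +
      ∑ i ∈ range L, p i * O.B ((O.Z ^ (J + i)) x) w := by
  rw [g_add, g_comb]
  congr 1
  simp only [Ctx.comb, map_sum, map_smul, smul_eq_mul, O.Zpow_merge]

/-- Moving `x` along translates of `w` to reach prescribed data. -/
theorem adjust (k : ℕ) (x w : V) (t : ℕ → F) (hb : ∀ J, k < J → O.g w J = 0)
    (hc : ∀ j, k < j → O.B ((O.Z ^ j) x) w = 0) (hcL : O.B ((O.Z ^ k) x) w ≠ 0)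
    (ht : ∀ J, k < J → O.g x J = t J) (p0 : F)
    (h0 : O.g x k + p0 ^ 2 * O.g w k + p0 * O.B ((O.Z ^ k) x) w = t k) :
    ∃ p : ℕ → F, p 0 = p0 ∧ ∀ J, O.g (x + O.comb (k + 1) p w) J = t J := by
  obtain ⟨p, hp0, hp⟩ := Ctx.exists_solution (L := k + 1) (fun J => O.g x J) (fun J => O.g w J)
    (fun n => O.B ((O.Z ^ (n - 1)) x) w) t (fun J hJ => hb J (by omega)) (fun n hn => hc _ (by omega))
    (by simpa using hcL) p0 (fun _ => by simpa using h0)
  refine ⟨p, hp0, fun J => ?_⟩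
  rw [g_add_comb]
  rcases Nat.lt_or_ge J (k + 1) with hJ | hJ
  · rw [← hp J hJ]
    congr 1
    refine sum_congr rfl fun i _ => ?_
    rw [show J + 1 + i - 1 = J + i by omega]
  · rw [sum_eq_zero fun i _ => by rw [hb _ (by omega), mul_zero],
      sum_eq_zero fun i _ => by rw [hc _ (by omega), mul_zero], add_zero, add_zero, ht J (by omega)]

theorem g_high {x : V} {m J : ℕ} (h : (O.N ^ m) x = 0) (hJ : m + 1 ≤ 2 * J) : O.g x J = 0 := by
  rcases J with _ | j
  · omega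
  · exact O.f_high h (by omega)

theorem g_top {x : V} {k : ℕ} (h : (O.N ^ (2 * k + 2)) x = 0) :
    O.g x (k + 1) = O.B ((O.N ^ (2 * k + 1)) x) x := O.f_top h

theorem g_eq_B (x : V) (j : ℕ) : O.g x (j + 1) = O.B ((O.Z ^ j) (O.N x)) x := O.f_eq_N x j

theorem Q_E (i : ℕ) (x : V) : O.Q (O.E i x) = O.g x i := by
  rcases Nat.even_or_odd' i with ⟨j, rfl | rfl⟩
  · rw [O.E_even, ← g_zero, g_Zpow, zero_add]
  · rw [O.E_odd, ← g_zero, g_Zpow, g_N, zero_add]

/-! ## Normal blocks -/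

/-- A cyclic block in normal form. -/
def VData (a₀ : F) (k : ℕ) (bit : Bool) (v : V) : Prop :=
  (O.N ^ (2 * k + 2)) v = 0 ∧ ∀ J, O.g v J = if J = k + 1 then 1 else if J = k ∧ bit = true then a₀ else 0

/-- A paired block in normal form. -/
def WData (a₀ : F) (m : ℕ) (bit : Bool) (v w : V) : Prop :=
  (O.N ^ (m + 1)) v = 0 ∧ (O.N ^ (m + 1)) w = 0 ∧
    (∀ J, O.g v J = if 2 * J = m ∧ bit = true then 1 else 0) ∧
    (∀ J, O.g w J = if 2 * J = m ∧ bit = true then a₀ else 0) ∧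
    ∀ i, O.B (O.E i v) w = if i = m then 1 else 0

theorem VData.fam {a₀ : F} {k : ℕ} {bit : Bool} {v : V} (h : O.VData a₀ k bit v) :
    O.Fam (2 * k + 1) ![v] := by
  refine ⟨fun a => by rw [Fin.fin_one_eq_zero a]; exact h.1, fun c hc => funext fun a => ?_⟩
  have h1 := hc 0
  rw [Fin.sum_univ_one] at h1
  simp only [Matrix.cons_val_fin_one] at h1
  rw [← O.g_top h.1, h.2, if_pos rfl, mul_one] at h1
  rw [Fin.fin_one_eq_zero a]; exact h1

theorem WData.tops {a₀ : F} {m : ℕ} {bit : Bool} {v w : V} (h : O.WData a₀ m bit v w) :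
    O.B ((O.N ^ m) v) v = 0 ∧ O.B ((O.N ^ m) w) w = 0 ∧ O.B ((O.N ^ m) v) w = 1 ∧ O.B ((O.N ^ m) w) v = 1 := by
  obtain ⟨hv, hw, fv, fw, hvw⟩ := h
  have e := hvw m
  rw [O.E_top hv, if_pos rfl] at e
  refine ⟨?_, ?_, e, (O.top_symm hv).trans e⟩
  · rw [← O.E_top hv, O.E_self]
    split_ifs with hp
    · rfl
    · rw [← g_succ, fv, if_neg]; omega
  · rw [← O.E_top hw, O.E_self]
    split_ifs with hp
    · rfl
    · rw [← g_succ, fw, if_neg]; omega

theorem WData.fam {a₀ : F} {m : ℕ} {bit : Bool} {v w : V} (h : O.WData a₀ m bit v w) : O.Fam m ![v, w] := by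
  obtain ⟨t1, t2, t3, t4⟩ := WData.tops O h
  refine ⟨fun a => by fin_cases a; exacts [h.1, h.2.1], fun c hc => funext fun a => ?_⟩
  have h0 := hc 0
  have h1 := hc 1
  simp only [Fin.sum_univ_two, Matrix.cons_val_zero, Matrix.cons_val_one, t1, t2, t3, t4,
    mul_zero, mul_one, zero_add, add_zero] at h0 h1
  fin_cases a
  exacts [h1, h0]

/-- The subspaces realising a block. -/
def BlkData (a₀ : F) (a : Blk) (S : Submodule F V) : Prop :=
  if a.isV then ∃ (k : ℕ) (v : V), a.ht = 2 * k + 2 ∧ O.VData a₀ k a.bit v ∧ S = O.spanE (2 * k + 1) ![v]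
  else ∃ (m : ℕ) (v w : V), a.ht = m + 1 ∧ O.WData a₀ m a.bit v w ∧ S = O.spanE m ![v, w]

/-- An orthogonal decomposition in normal blocks. -/
def HasForm (a₀ : F) : List Blk → Submodule F V → Prop
  | [], U => U = ⊥
  | a :: R, U => ∃ S, O.BlkData a₀ a S ∧ S ≤ U ∧ HasForm a₀ R (U ⊓ O.orth S)

theorem BlkData.exists_fam {a₀ : F} {a : Blk} {S : Submodule F V} (h : O.BlkData a₀ a S) :
    ∃ (r m : ℕ) (x : Fin r → V), O.Fam m x ∧ S = O.spanE m x ∧ a.ht = m + 1 ∧ r * (m + 1) = 2 * a.wt ∧ 1 ≤ r := by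
  rw [BlkData] at h
  split_ifs at h with hv
  · obtain ⟨k, v, hk, hd, rfl⟩ := h
    refine ⟨1, _, _, VData.fam O hd, rfl, hk, ?_, le_rfl⟩
    rw [Blk.wt, if_pos hv, hk]; omega
  · obtain ⟨m, v, w, hm, hd, rfl⟩ := h
    refine ⟨2, _, _, WData.fam O hd, rfl, hm, ?_, by omega⟩
    rw [Blk.wt, if_neg hv, hm]

theorem finrank_eq [FiniteDimensional F V] {a₀ : F} : ∀ {L : List Blk} {U : Submodule F V}, O.Piece U →
    O.HasForm a₀ L U → finrank F U = 2 * wts L
  | [], U, _, h => by rw [h, finrank_bot]; rfl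
  | a :: R, U, hU, ⟨S, hS, hSU, hR⟩ => by
    obtain ⟨r, m, x, hx, rfl, -, hw, -⟩ := BlkData.exists_fam O hS
    have hxU : ∀ i, x i ∈ U := fun i => hSU (O.mem_spanE_self x i)
    have h1 := O.finrank_rest hU hx hxU
    rw [finrank_eq (O.rest hU hx hxU).1 hR, hw] at h1
    rw [wts, List.map_cons, List.sum_cons, ← wts]
    omega

end OCtx

/-! ## Isometries -/

variable {V' : Type w} [AddCommGroup V'] [Module F V']

/-- An intertwining isometry between two pieces. -/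
def OIsoOn (C : OCtx F V) (D : OCtx F V') (U : Submodule F V) (U' : Submodule F V') : Prop :=
  ∃ θ : V →ₗ[F] V', (∀ x ∈ U, θ x ∈ U') ∧ (∀ x ∈ U, θ (C.N x) = D.N (θ x)) ∧
    (∀ x ∈ U, ∀ y ∈ U, D.B (θ x) (θ y) = C.B x y) ∧ U' ≤ U.map θ ∧ ∀ x ∈ U, D.Q (θ x) = C.Q x

variable [FiniteDimensional F V] [FiniteDimensional F V'] (C : OCtx F V) (D : OCtx F V')

theorem oIsoOn_span {r m : ℕ} {x : Fin r → V} {x' : Fin r → V'} (hx : C.Fam m x) (hx' : D.Fam m x')
    (h : ∀ a b i, C.B (C.E i (x a)) (x b) = D.B (D.E i (x' a)) (x' b)) (hQ : ∀ a i, C.g (x a) i = D.g (x' a) i) :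
    OIsoOn C D (C.spanE m x) (D.spanE m x') := by
  obtain ⟨θ, hθ⟩ := LinearMap.exists_extend ((Basis.span (C.fvec_indep hx)).constr F (D.fvec m x'))
  have hb : ∀ p, θ (C.fvec m x p) = D.fvec m x' p := fun p => by
    have := LinearMap.congr_fun hθ (Basis.span (C.fvec_indep hx) p)
    rwa [Basis.constr_basis, LinearMap.comp_apply, Submodule.subtype_apply, Basis.span_apply] at this
  have hE : ∀ a i, θ (C.E i (x a)) = D.E i (x' a) := by
    intro a i
    rcases Nat.lt_or_ge i (m + 1) with hi | hi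
    · exact hb (a, ⟨i, hi⟩)
    · rw [C.E_zero (hx.height a) hi, D.E_zero (hx'.height a) hi, map_zero]
  have hB : ∀ y ∈ C.spanE m x, ∀ z ∈ C.spanE m x, D.B (θ y) (θ z) = C.B y z := fun y hy z hz => by
    induction hy using Submodule.span_induction with
    | mem y hy =>
      obtain ⟨p, rfl⟩ := hy
      induction hz using Submodule.span_induction with
      | mem z hz =>
        obtain ⟨l, rfl⟩ := hz
        rw [hb, hb]; exact (gram C.toCtx D.toCtx h p.1 l.1 p.2 l.2).symm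
      | zero => simp
      | add a b _ _ ha hb => simp [ha, hb]
      | smul s a _ ha => simp [ha]
    | zero => simp
    | add a b _ _ ha hb => simp [ha, hb]
    | smul s a _ ha => simp [ha]
  refine ⟨θ, fun y hy => ?_, fun y hy => ?_, hB, ?_, fun y hy => ?_⟩
  · induction hy using Submodule.span_induction with
    | mem y hy => obtain ⟨p, rfl⟩ := hy; rw [hb]; exact Submodule.subset_span ⟨p, rfl⟩
    | zero => rw [map_zero]; exact zero_mem _
    | add a b _ _ ha hb => rw [map_add]; exact add_mem ha hb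
    | smul s a _ ha => rw [map_smul]; exact Submodule.smul_mem _ s ha
  · induction hy using Submodule.span_induction with
    | mem y hy =>
      obtain ⟨p, rfl⟩ := hy
      rw [Ctx.fvec, C.N_E, hE, D.N_E]
      split_ifs <;> simp [hE]
    | zero => simp
    | add a b _ _ ha hb => simp [ha, hb]
    | smul s a _ ha => simp [ha]
  · refine Submodule.span_le.2 ?_
    rintro _ ⟨p, rfl⟩
    exact ⟨_, Submodule.subset_span ⟨p, rfl⟩, hb p⟩
  · induction hy using Submodule.span_induction with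
    | mem y hy =>
      obtain ⟨p, rfl⟩ := hy
      rw [hb, Ctx.fvec, Ctx.fvec, C.Q_E, D.Q_E, hQ]
    | zero => rw [map_zero, C.Q_zero, D.Q_zero]
    | add a b ha' hb' ha hb => rw [map_add, C.Qadd, D.Qadd, ha, hb, hB a ha' b hb']
    | smul s a _ ha => rw [map_smul, C.Qsmul, D.Qsmul, ha]

theorem oIsoOn_combine {r r' m m' : ℕ} {x : Fin r → V} {x' : Fin r' → V'} {U : Submodule F V}
    {U' : Submodule F V'} (hU : C.Piece U) (hU' : D.Piece U') (hx : C.Fam m x) (hx' : D.Fam m' x')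
    (hxU : ∀ a, x a ∈ U) (hxU' : ∀ a, x' a ∈ U') (h1 : OIsoOn C D (C.spanE m x) (D.spanE m' x'))
    (h2 : OIsoOn C D (U ⊓ C.orth (C.spanE m x)) (U' ⊓ D.orth (D.spanE m' x'))) : OIsoOn C D U U' := by
  set S := C.spanE m x
  set R := U ⊓ C.orth S
  obtain ⟨θ1, a1, b1, c1, d1, q1⟩ := h1
  obtain ⟨θ2, a2, b2, c2, d2, q2⟩ := h2
  have hcompl : IsCompl S (C.orth S) := by
    refine ⟨Submodule.disjoint_def.2 fun y hy hy' => (C.span_piece hx).nd y hy fun t ht => by
      rw [C.symm]; exact C.mem_orth.1 hy' t ht, codisjoint_iff.2 (eq_top_iff.2 fun y _ => ?_)⟩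
    obtain ⟨s, hs, h⟩ := C.span_rep hx y
    exact Submodule.mem_sup.2 ⟨s, hs, y - s, C.mem_orth.2 h, by abel⟩
  obtain ⟨P, hP, hP'⟩ : ∃ P : Module.End F V, (∀ s ∈ S, P s = s) ∧ ∀ t ∈ C.orth S, P t = 0 := by
    refine ⟨S.subtype ∘ₗ S.projectionOnto (C.orth S) hcompl, fun s hs => ?_, fun t ht => ?_⟩
    · rw [LinearMap.comp_apply, show s = ((⟨s, hs⟩ : S) : V) from rfl, Submodule.projectionOnto_apply_left]; rfl
    · rw [LinearMap.comp_apply, show t = ((⟨t, ht⟩ : C.orth S) : V) from rfl, Submodule.projectionOnto_apply_right,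
        map_zero]
  set θ := θ1 ∘ₗ P + θ2 ∘ₗ ((1 : Module.End F V) - P)
  have key : ∀ s ∈ S, ∀ t ∈ R, θ (s + t) = θ1 s + θ2 t := fun s hs t ht => by
    simp [θ, hP s hs, hP' t ht.2]
  have hdec : ∀ y ∈ U, ∃ s ∈ S, ∃ t ∈ R, y = s + t := fun y hy => by
    rw [← (C.rest hU hx hxU).2] at hy
    obtain ⟨s, hs, t, ht, rfl⟩ := Submodule.mem_sup.1 hy
    exact ⟨s, hs, t, ht, rfl⟩
  refine ⟨θ, fun y hy => ?_, fun y hy => ?_, fun y hy z hz => ?_, fun y hy => ?_, fun y hy => ?_⟩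
  · obtain ⟨s, hs, t, ht, rfl⟩ := hdec y hy
    rw [key s hs t ht]
    exact add_mem (D.span_le hU' hxU' (a1 s hs)) (a2 t ht).1
  · obtain ⟨s, hs, t, ht, rfl⟩ := hdec y hy
    rw [map_add, key _ ((C.span_piece hx).inv s hs) _ ((C.rest hU hx hxU).1.inv t ht), key s hs t ht, map_add,
      b1 s hs, b2 t ht]
  · obtain ⟨s, hs, t, ht, rfl⟩ := hdec y hy
    obtain ⟨s', hs', t', ht', rfl⟩ := hdec z hz
    rw [key s hs t ht, key s' hs' t' ht']
    simp only [map_add, LinearMap.add_apply]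
    rw [c1 s hs s' hs', c2 t ht t' ht', D.mem_orth.1 (a2 t' ht').2 _ (a1 s hs),
      D.symm (θ2 t), D.mem_orth.1 (a2 t ht).2 _ (a1 s' hs'), C.symm t s', C.mem_orth.1 ht'.2 s hs,
      C.mem_orth.1 ht.2 s' hs']
  · rw [← (D.rest hU' hx' hxU').2] at hy
    obtain ⟨s, hs, t, ht, rfl⟩ := Submodule.mem_sup.1 hy
    obtain ⟨s0, hs0, rfl⟩ := d1 hs
    obtain ⟨t0, ht0, rfl⟩ := d2 ht
    exact ⟨s0 + t0, add_mem (C.span_le hU hxU hs0) ht0.1, key s0 hs0 t0 ht0⟩
  · obtain ⟨s, hs, t, ht, rfl⟩ := hdec y hy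
    rw [key s hs t ht, C.Qadd, D.Qadd, q1 s hs, q2 t ht, D.mem_orth.1 (a2 t ht).2 _ (a1 s hs),
      C.mem_orth.1 ht.2 s hs]

theorem ogram_V {a₀ : F} {k : ℕ} {bit : Bool} {v : V} {v' : V'} (h : C.VData a₀ k bit v)
    (h' : D.VData a₀ k bit v') (a b : Fin 1) (i : ℕ) :
    C.B (C.E i (![v] a)) (![v] b) = D.B (D.E i (![v'] a)) (![v'] b) := by
  simp only [Matrix.cons_val_fin_one, C.E_self, D.E_self, ← OCtx.g_succ, h.2, h'.2]

theorem ogram_W {a₀ : F} {m : ℕ} {bit : Bool} {v w : V} {v' w' : V'} (h : C.WData a₀ m bit v w)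
    (h' : D.WData a₀ m bit v' w') (a b : Fin 2) (i : ℕ) :
    C.B (C.E i (![v, w] a)) (![v, w] b) = D.B (D.E i (![v', w'] a)) (![v', w'] b) := by
  obtain ⟨-, -, fv, fw, hvw⟩ := h
  obtain ⟨-, -, fv', fw', hvw'⟩ := h'
  fin_cases a <;> fin_cases b <;> simp only [Fin.zero_eta, Fin.mk_one, Matrix.cons_val_zero, Matrix.cons_val_one]
  · simp only [C.E_self, D.E_self, ← OCtx.g_succ, fv, fv']
  · rw [hvw, hvw']
  · rcases Nat.even_or_odd' i with ⟨s, rfl | rfl⟩
    · rw [C.E_even, D.E_even, C.Zpow_adj, C.symm, D.Zpow_adj, D.symm w', ← C.E_even, ← D.E_even, hvw, hvw']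
    · have e1 := C.N_flip s v w
      have e2 := D.N_flip s v' w'
      rw [← C.E_odd s v, ← C.E_odd s w, ← C.E_even (s + 1), hvw, hvw] at e1
      rw [← D.E_odd s v', ← D.E_odd s w', ← D.E_even (s + 1), hvw', hvw'] at e2
      exact add_left_cancel (e1.trans e2.symm)
  · simp only [C.E_self, D.E_self, ← OCtx.g_succ, fw, fw']

/-- Two pieces with the same list are isometric. -/
theorem oIsoOn_of_form {a₀ : F} : ∀ {L : List Blk} {U : Submodule F V} {U' : Submodule F V'}, C.Piece U →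
    D.Piece U' → C.HasForm a₀ L U → D.HasForm a₀ L U' → OIsoOn C D U U'
  | [], U, U', _, _, h, h' => by
    obtain rfl : U = ⊥ := h
    obtain rfl : U' = ⊥ := h'
    exact ⟨0, by simp, by simp, by intro x hx y _; rw [(Submodule.mem_bot F).1 hx]; simp, bot_le, by
      intro x hx; rw [(Submodule.mem_bot F).1 hx, map_zero, C.Q_zero, D.Q_zero]⟩
  | a :: R, U, U', hU, hU', ⟨S, hS, hSU, hR⟩, ⟨S', hS', hSU', hR'⟩ => by
    rw [OCtx.BlkData] at hS hS'
    split_ifs at hS hS' with hv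
    · obtain ⟨k, v, hk, hd, rfl⟩ := hS
      obtain ⟨k', v', hk', hd', rfl⟩ := hS'
      obtain rfl : k = k' := by omega
      have hf := OCtx.VData.fam C hd
      have hf' := OCtx.VData.fam D hd'
      have hm : ∀ i, ![v] i ∈ U := fun i => hSU (C.mem_spanE_self _ i)
      have hm' : ∀ i, ![v'] i ∈ U' := fun i => hSU' (D.mem_spanE_self _ i)
      exact oIsoOn_combine C D hU hU' hf hf' hm hm' (oIsoOn_span C D hf hf' (ogram_V C D hd hd') fun a i => by
        simp only [Matrix.cons_val_fin_one]; rw [hd.2, hd'.2])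
        (oIsoOn_of_form (C.rest hU hf hm).1 (D.rest hU' hf' hm').1 hR hR')
    · obtain ⟨m, v, w, hk, hd, rfl⟩ := hS
      obtain ⟨m', v', w', hk', hd', rfl⟩ := hS'
      obtain rfl : m = m' := by omega
      have hf := OCtx.WData.fam C hd
      have hf' := OCtx.WData.fam D hd'
      have hm : ∀ i, ![v, w] i ∈ U := fun i => hSU (C.mem_spanE_self _ i)
      have hm' : ∀ i, ![v', w'] i ∈ U' := fun i => hSU' (D.mem_spanE_self _ i)
      exact oIsoOn_combine C D hU hU' hf hf' hm hm' (oIsoOn_span C D hf hf' (ogram_W C D hd hd') fun a i => by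
        obtain ⟨-, -, fv, fw, -⟩ := hd
        obtain ⟨-, -, fv', fw', -⟩ := hd'
        fin_cases a
        exacts [(fv i).trans (fv' i).symm, (fw i).trans (fw' i).symm])
        (oIsoOn_of_form (C.rest hU hf hm).1 (D.rest hU' hf' hm').1 hR hR')

end Cfsg.Agent.OrthEven
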