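import Cfsg.Agent.SympTwo.Normal
import Cfsg.Agent.OrthEven.Ctx

/-!
# Gauss sums of quadratic forms in characteristic two

The sign of the Gauss sum of a space with a normal form is the parity of the number of its bits.
-/

set_option autoImplicit false

namespace Cfsg.Agent.OrthEven

open Module Finset Cfsg.Agent.SympTwo

universe u v

variable {F : Type u} [Field F]

open scoped Classical in
/-- The additive character killing the values `r ^ 2 + r`. -/
noncomputable def psi (t : F) : ℤ := if ∃ r, r ^ 2 + r = t then 1 else -1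

section Psi

variable (h2 : (2 : F) = 0) {a₀ : F} (ha : IsASRep a₀)
include h2 ha

theorem psi_add (s t : F) : psi (s + t) = psi s * psi t := by
  classical
  have hadd : ∀ {s t : F}, (∃ r, r ^ 2 + r = s) → (∃ r, r ^ 2 + r = t) → ∃ r, r ^ 2 + r = s + t := by
    rintro s t ⟨r, rfl⟩ ⟨r', rfl⟩
    exact ⟨r + r', by linear_combination (r * r') * h2⟩
  have hno : ∀ {s t : F}, (∃ r, r ^ 2 + r = s) → ¬(∃ r, r ^ 2 + r = t) → ¬∃ r, r ^ 2 + r = s + t := by
    intro s t hs ht hst
    obtain ⟨r, hr⟩ := hadd hs hst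
    exact ht ⟨r, by rw [hr]; linear_combination s * h2⟩
  unfold psi
  by_cases hs : ∃ r, r ^ 2 + r = s <;> by_cases ht : ∃ r, r ^ 2 + r = t
  · rw [if_pos hs, if_pos ht, if_pos (hadd hs ht)]; rfl
  · rw [if_pos hs, if_neg ht, if_neg (hno hs ht)]; rfl
  · rw [if_neg hs, if_pos ht, if_neg (by rw [add_comm]; exact hno ht hs)]; rfl
  · rw [if_neg hs, if_neg ht, if_pos]
    · rfl
    obtain ⟨r, hr⟩ := hadd ((ha.2 s).resolve_left hs) ((ha.2 t).resolve_left ht)
    exact ⟨r, by rw [hr]; linear_combination a₀ * h2⟩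

omit ha in
theorem psi_sq (t : F) : psi (t ^ 2) = psi t := by
  classical
  unfold psi
  refine if_congr ⟨fun ⟨r, hr⟩ => ⟨r + t, ?_⟩, fun ⟨r, hr⟩ => ⟨r + t, ?_⟩⟩ rfl rfl
  · linear_combination hr + (r * t + t ^ 2) * h2
  · linear_combination hr + (r * t + t) * h2 - 0

omit h2 ha in
theorem psi_zero : psi (0 : F) = 1 := by
  classical
  rw [psi, if_pos ⟨0, by simp⟩]

omit h2 in
theorem psi_rep : psi a₀ = -1 := by
  classical
  rw [psi, if_neg fun ⟨r, hr⟩ => ha.1 r hr]

/-- A nonzero functional gives a vanishing sum. -/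
theorem sum_psi_eq_zero {W : Type v} [AddCommGroup W] [Module F W] [Fintype W] (ℓ : W →ₗ[F] F) {w : W} (hw : ℓ w ≠ 0) :
    ∑ x : W, psi (ℓ x) = 0 := by
  have h1 : ∑ x : W, psi (ℓ x) = ∑ x : W, psi (ℓ (x + (a₀ / ℓ w) • w)) :=
    (Equiv.sum_comp (Equiv.addRight ((a₀ / ℓ w) • w)) fun x => psi (ℓ x)).symm
  have h2' : ∀ x, psi (ℓ (x + (a₀ / ℓ w) • w)) = -psi (ℓ x) := fun x => by
    rw [map_add, map_smul, smul_eq_mul, div_mul_cancel₀ _ hw, psi_add h2 ha, psi_rep ha, mul_neg_one]
  simp only [h2', sum_neg_distrib] at h1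
  omega

end Psi

/-! ## Sums over subspaces -/

variable {V : Type v} [AddCommGroup V] [Module F V]

/-- The Gauss sum over a subspace. -/
noncomputable def gsum (Q : V → F) (U : Submodule F V) : ℤ := ∑ᶠ x : U, psi (Q x)

variable [Finite V] {B : LinearMap.BilinForm F V} {Q : V → F}
variable (h2 : (2 : F) = 0) {a₀ : F} (ha : IsASRep a₀) (hadd : ∀ x y, Q (x + y) = Q x + Q y + B x y)
include h2 ha hadd

theorem gsum_sup {U S R : Submodule F V} (hU : S ⊔ R = U) (hd : ∀ x ∈ S, x ∈ R → x = 0)
    (horth : ∀ s ∈ S, ∀ r ∈ R, B s r = 0) : gsum Q U = gsum Q S * gsum Q R := by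
  classical
  have : Fintype V := Fintype.ofFinite V
  rw [gsum, gsum, gsum, finsum_eq_sum_of_fintype, finsum_eq_sum_of_fintype, finsum_eq_sum_of_fintype,
    Fintype.sum_mul_sum, ← Fintype.sum_prod_type']
  symm
  refine Fintype.sum_bijective (fun p : S × R => (⟨p.1.1 + p.2.1, hU ▸ Submodule.add_mem_sup p.1.2 p.2.2⟩ : U))
    ⟨fun p p' h => ?_, fun x => ?_⟩ _ _ fun p => ?_
  · have h' : p.1.1 + p.2.1 = p'.1.1 + p'.2.1 := congrArg Subtype.val h
    have e : p.1.1 - p'.1.1 = p'.2.1 - p.2.1 := by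
      rw [sub_eq_sub_iff_add_eq_add, h', add_comm]
    have := hd _ (sub_mem p.1.2 p'.1.2) (e ▸ sub_mem p'.2.2 p.2.2)
    refine Prod.ext (Subtype.ext (sub_eq_zero.1 this)) (Subtype.ext (sub_eq_zero.1 ?_).symm)
    rw [← e, this]
  · obtain ⟨s, hs, r, hr, e⟩ := Submodule.mem_sup.1 (hU.symm ▸ x.2 : (x : V) ∈ S ⊔ R)
    exact ⟨(⟨s, hs⟩, ⟨r, hr⟩), Subtype.ext e⟩
  · show psi (Q p.1) * psi (Q p.2) = psi (Q (p.1.1 + p.2.1))
    rw [hadd, horth _ p.1.2 _ p.2.2, add_zero, psi_add h2 ha]

theorem gsum_singular {I : Submodule F V} (hI : ∀ x ∈ I, Q x = 0) : gsum Q I = Nat.card I := by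
  classical
  have : Fintype V := Fintype.ofFinite V
  rw [gsum, finsum_eq_sum_of_fintype, Finset.sum_eq_card_nsmul (b := (1 : ℤ)) fun x _ => by rw [hI x x.2, psi_zero]]
  rw [nsmul_one, Finset.card_univ, Nat.card_eq_fintype_card]

theorem gsum_reduce {U I : Submodule F V} (hIU : I ≤ U) (hI : ∀ x ∈ I, Q x = 0) :
    gsum Q U = gsum Q (U ⊓ B.orthogonal I) := by
  classical
  have hB : ∀ x y, B x y = B y x := fun x y => by
    have := hadd x y; rw [add_comm x y, hadd, add_comm (Q y)] at this
    exact (add_left_cancel this).symm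
  have : Fintype V := Fintype.ofFinite V
  rw [gsum, gsum, finsum_eq_sum_of_fintype, finsum_eq_sum_of_fintype]
  have h1 : ∀ i : I, ∑ x : U, psi (Q x) = ∑ x : U, psi (Q x) * psi (B x i) := fun i => by
    rw [← Equiv.sum_comp (Equiv.addRight (⟨i.1, hIU i.2⟩ : U)) fun x : U => psi (Q x)]
    refine sum_congr rfl fun x _ => ?_
    simp only [Equiv.coe_addRight, Submodule.coe_add]
    rw [hadd, hI _ i.2, add_zero, psi_add h2 ha]
  have h3 : ∑ x : U, psi (Q x) * ∑ i : I, psi (B x i) =
      Fintype.card I * ∑ x : U, if (x : V) ∈ B.orthogonal I then psi (Q x) else 0 := by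
    rw [mul_sum]
    refine sum_congr rfl fun x _ => ?_
    split_ifs with hx
    · rw [Finset.sum_eq_card_nsmul (b := (1 : ℤ)) fun i _ => by
        rw [hB, show B (i : V) x = 0 from hx i i.2, psi_zero]]
      rw [nsmul_one, Finset.card_univ]; ring
    · obtain ⟨i, hi, hi0⟩ : ∃ i ∈ I, B i x ≠ 0 := by
        by_contra! h; exact hx h
      have := sum_psi_eq_zero h2 ha ((B x).comp I.subtype) (w := ⟨i, hi⟩) (by
        rw [LinearMap.comp_apply, Submodule.subtype_apply, hB]; exact hi0)
      simp only [LinearMap.comp_apply, Submodule.subtype_apply] at this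
      rw [this, mul_zero, mul_zero]
  have h4 : (Fintype.card I : ℤ) * ∑ x : U, psi (Q x) = ∑ x : U, psi (Q x) * ∑ i : I, psi (B x i) := by
    rw [← Finset.card_univ, ← nsmul_eq_mul, ← Finset.sum_const, Finset.sum_congr rfl fun i _ => h1 i, sum_comm]
    simp only [mul_sum]
  rw [h3] at h4
  rw [mul_left_cancel₀ (by exact_mod_cast Fintype.card_ne_zero) h4, ← Finset.sum_filter]
  symm
  refine Finset.sum_bij (fun x _ => (⟨x.1, x.2.1⟩ : U)) (fun x _ => by simpa using x.2.2)
    (fun x _ y _ h => Subtype.ext (congrArg Subtype.val h :)) (fun x hx => ?_) fun x _ => rfl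
  exact ⟨⟨x.1, x.2, (mem_filter.1 hx).2⟩, mem_univ _, rfl⟩

theorem gsum_ne_zero (hsmul : ∀ (c : F) x, Q (c • x) = c ^ 2 * Q x) {U : Submodule F V}
    (hnd : ∀ x ∈ U, (∀ y ∈ U, B x y = 0) → x = 0) : gsum Q U ≠ 0 := by
  classical
  have : Fintype V := Fintype.ofFinite V
  have hQ0 : Q 0 = 0 := by
    have := hsmul 0 0
    rwa [zero_smul, zero_pow (by norm_num), zero_mul] at this
  suffices h : gsum Q U * gsum Q U = Fintype.card U by
    intro h0; rw [h0, mul_zero] at h; exact Fintype.card_ne_zero (α := U) (by exact_mod_cast h.symm)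
  rw [gsum, finsum_eq_sum_of_fintype, sum_mul_sum]
  have e : ∀ x : U, ∑ y : U, psi (Q x) * psi (Q y) = ∑ z : U, psi (Q z) * psi (B x z) := fun x => by
    rw [← Equiv.sum_comp (Equiv.addLeft x) fun y : U => psi (Q x) * psi (Q y)]
    refine sum_congr rfl fun z _ => ?_
    simp only [Equiv.coe_addLeft, Submodule.coe_add]
    rw [hadd, ← psi_add h2 ha, ← psi_add h2 ha]
    congr 1
    linear_combination Q x.1 * h2
  rw [sum_congr rfl fun x _ => e x, sum_comm, sum_eq_single (0 : U)]
  · simp [hQ0, psi_zero]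
  · intro z _ hz
    obtain ⟨y, hy, hy0⟩ : ∃ y ∈ U, B y z ≠ 0 := by
      by_contra! h
      refine hz (Subtype.ext (hnd z z.2 fun y hy => ?_))
      have h' := hadd z.1 y; rw [add_comm z.1 y, hadd, add_comm (Q y)] at h'
      exact (add_left_cancel h').symm.trans (h y hy)
    have := sum_psi_eq_zero h2 ha ((B.flip z.1).comp U.subtype) (w := ⟨y, hy⟩) hy0
    have h' : ∑ x : U, psi (B x z) = 0 := this
    rw [← mul_sum, h', mul_zero]
  · exact fun h' => absurd (mem_univ _) h'

theorem gsum_plane (hsmul : ∀ (c : F) x, Q (c • x) = c ^ 2 * Q x) (halt : ∀ x, B x x = 0) [Finite F] {p r : V}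
    (hpr : B p r = 1) : gsum Q (Submodule.span F {p, r}) = Nat.card F * psi (Q p * Q r) := by
  classical
  have : Fintype V := Fintype.ofFinite V
  have : Fintype F := Fintype.ofFinite F
  rw [gsum, finsum_eq_sum_of_fintype, Nat.card_eq_fintype_card]
  obtain ⟨α, hα⟩ := exists_sqrt h2 (Q p)
  have hmem : ∀ c : F × F, c.1 • p + c.2 • r ∈ Submodule.span F {p, r} := fun c =>
    Submodule.mem_span_pair.2 ⟨c.1, c.2, rfl⟩
  have hb : Function.Bijective fun c : F × F => (⟨_, hmem c⟩ : Submodule.span F {p, r}) := by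
    refine ⟨fun c d h => ?_, fun x => ?_⟩
    · have e : c.1 • p + c.2 • r = d.1 • p + d.2 • r := congrArg Subtype.val h
      have e1 := congrArg (fun z => B z r) e
      have e2 := congrArg (fun z => B p z) e
      simp only [map_add, map_smul, LinearMap.add_apply, LinearMap.smul_apply, smul_eq_mul, hpr, halt, mul_one,
        mul_zero, add_zero, zero_add] at e1 e2
      exact Prod.ext e1 e2
    · obtain ⟨a, b, e⟩ := Submodule.mem_span_pair.1 x.2
      exact ⟨(a, b), Subtype.ext e⟩
  rw [← Fintype.sum_bijective _ hb (fun c : F × F => psi (Q (c.1 • p + c.2 • r))) _ fun c => rfl,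
    Fintype.sum_prod_type, sum_comm, sum_eq_single α]
  · have hone : ∀ a : F, psi (Q (a • p + α • r)) = psi (Q p * Q r) := fun a => by
      simp only [hadd, hsmul, map_smul, LinearMap.smul_apply, smul_eq_mul, hpr]
      rw [
        psi_add h2 ha, psi_add h2 ha, ← hα, show a ^ 2 * α ^ 2 = (a * α) ^ 2 by ring, psi_sq h2, mul_one,
        mul_right_comm, ← psi_add h2 ha (a * α), show a * α + α * a = 0 by linear_combination (a * α) * h2,
        psi_zero, one_mul]
    rw [sum_congr rfl fun a _ => hone a, sum_const, card_univ, nsmul_eq_mul]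
  · intro b _ hb
    have hterm : ∀ a : F, psi (Q (a • p + b • r)) = psi (a * (α + b)) * psi (b ^ 2 * Q r) := fun a => by
      simp only [hadd, hsmul, map_smul, LinearMap.smul_apply, smul_eq_mul, hpr]
      rw [
        psi_add h2 ha, psi_add h2 ha, ← hα, show a ^ 2 * α ^ 2 = (a * α) ^ 2 by ring, psi_sq h2, mul_one,
        mul_right_comm, ← psi_add h2 ha (a * α), show a * α + b * a = a * (α + b) by ring]
    rw [sum_congr rfl fun a _ => hterm a, ← sum_mul]
    have := sum_psi_eq_zero h2 ha (LinearMap.mulRight F (α + b)) (w := (1 : F)) (by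
      rw [LinearMap.mulRight_apply, one_mul]
      exact fun h => hb (by linear_combination h - α * h2))
    simp only [LinearMap.mulRight_apply] at this
    rw [this, zero_mul]
  · exact fun h' => absurd (mem_univ _) h'

omit [Finite V] h2 ha hadd

/-! ## The sign of a normal form -/

namespace OCtx

variable (O : OCtx F V) [FiniteDimensional F V] [Finite F]

/-- The span of the translates with index in a set. -/
noncomputable def lev {r : ℕ} (m : ℕ) (x : Fin r → V) (P : ℕ → Prop) : Submodule F V :=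
  Submodule.span F (O.fvec m x '' {p | P p.2})

omit [FiniteDimensional F V] [Finite F] in
theorem BE (x y : V) (i j : ℕ) :
    O.B (O.E i x) (O.E j y) = O.B (O.E (i + j) x) y ∨ O.B (O.E i x) (O.E j y) = O.B (O.E (i + j) y) x := by
  rcases Nat.even_or_odd' i with ⟨s, rfl | rfl⟩ <;> rcases Nat.even_or_odd' j with ⟨t, rfl | rfl⟩
  · left; rw [show 2 * s + 2 * t = 2 * (s + t) by ring, O.E_even, O.E_even, O.E_even, O.Zpow_merge]
  · right
    rw [show 2 * s + (2 * t + 1) = 2 * (s + t) + 1 by ring, O.E_even, O.E_odd, O.E_odd, O.Zpow_merge, O.Zpow_adj,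
      O.symm]
  · left; rw [show 2 * s + 1 + 2 * t = 2 * (s + t) + 1 by ring, O.E_odd, O.E_even, O.E_odd, O.Zpow_merge]
  · left
    rw [show 2 * s + 1 + (2 * t + 1) = 2 * (s + t + 1) by ring, O.E_odd, O.E_odd, O.E_even, O.Zpow_merge,
      ← O.N_Zpow, O.NN_adj, ← Module.End.mul_apply O.Z, ← pow_succ']

omit [Finite F] in
theorem sign_fam {r m : ℕ} {x : Fin r → V} [Finite V] (hx : O.Fam m x) {lo hi : ℕ} (hlh : lo ≤ hi)
    (hsum : lo + hi = m + 1) (hg : ∀ a, ∀ i, hi ≤ i → O.g (x a) i = 0) (h2 : (2 : F) = 0) {a₀ : F}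
    (ha : IsASRep a₀) :
    Int.sign (gsum O.Q (O.spanE m x)) = Int.sign (gsum O.Q (O.lev m x fun i => lo ≤ i ∧ i < hi)) := by
  classical
  set I := O.lev m x (fun i => hi ≤ i) with hI
  set M := O.lev m x (fun i => lo ≤ i ∧ i < hi) with hM
  have hIU : I ≤ O.spanE m x := Submodule.span_mono (Set.image_subset_range _ _)
  have hzero : ∀ (a b : Fin r) (i j : ℕ), m < i + j → O.B (O.E i (x a)) (O.E j (x b)) = 0 := fun a b i j hij => by
    rcases O.BE (x a) (x b) i j with e | e <;> rw [e, O.E_zero (hx.height _) (by omega), map_zero,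
      LinearMap.zero_apply]
  have hgen : ∀ P Q' : ℕ → Prop, (∀ i j, P i → Q' j → m < i + j) → ∀ s ∈ O.lev m x P, ∀ t ∈ O.lev m x Q',
      O.B s t = 0 := by
    intro P Q' h s hs t ht
    induction hs using Submodule.span_induction with
    | mem s hs =>
      obtain ⟨p, hp, rfl⟩ := hs
      induction ht using Submodule.span_induction with
      | mem t ht => obtain ⟨l, hl, rfl⟩ := ht; exact hzero _ _ _ _ (h _ _ hp hl)
      | zero => simp
      | add a b _ _ ha hb => simp [ha, hb]
      | smul s a _ ha => simp [ha]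
    | zero => simp
    | add a b _ _ ha hb => simp [ha, hb]
    | smul s a _ ha => simp [ha]
  have hQI : ∀ s ∈ I, O.Q s = 0 := by
    intro s hs
    induction hs using Submodule.span_induction with
    | mem s hs =>
      obtain ⟨p, hp, rfl⟩ := hs
      rw [Ctx.fvec, O.Q_E, hg _ _ hp]
    | zero => exact O.Q_zero
    | add a b ha' hb' ha hb =>
      rw [O.Qadd, ha, hb, hgen _ _ (fun i j hi' hj' => by omega) a ha' b hb']; simp
    | smul c a _ ha => rw [O.Qsmul, ha, mul_zero]
  have hperp : O.spanE m x ⊓ O.B.orthogonal I = O.lev m x (fun i => lo ≤ i) := by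
    refine le_antisymm (fun y hy => ?_) (le_inf (Submodule.span_mono (Set.image_subset_range _ _))
      fun y hy s hs => hgen _ _ (fun i j hi' hj' => by omega) s hs y hy)
    obtain ⟨hy1, hy2⟩ := hy
    obtain ⟨c, rfl⟩ := Submodule.mem_span_range_iff_exists_fun F |>.1 hy1
    have key : ∀ i : ℕ, ∀ p : Fin r × Fin (m + 1), p.2.val = i → i < lo → c p = 0 := by
      intro i
      induction i using Nat.strongRecOn with
      | _ i ih =>
      intro p hp hilo
      have hc := hx.top (fun a => c (a, ⟨i, by omega⟩)) fun b => by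
        have h := hy2 (O.E (m - i) (x b)) (Submodule.subset_span ⟨(b, ⟨m - i, by omega⟩), by
          show hi ≤ m - i; omega, rfl⟩)
        change O.B (O.E (m - i) (x b)) (∑ p, c p • O.fvec m x p) = 0 at h
        rw [← h, map_sum, Fintype.sum_prod_type]
        refine sum_congr rfl fun a _ => ?_
        rw [sum_eq_single (⟨i, by omega⟩ : Fin (m + 1))]
        · rw [map_smul, smul_eq_mul]
          congr 1
          rcases O.BE (x b) (x a) (m - i) i with e | e <;>
            simp only [Ctx.fvec] <;> rw [e, Nat.sub_add_cancel (show i ≤ m by omega), O.E_top (hx.height _)]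
          exact O.top_symm (hx.height b)
        · intro l _ hl
          rcases Nat.lt_trichotomy l.val i with hlt | heq | hgt
          · rw [ih _ hlt (a, l) rfl (by omega), zero_smul, map_zero]
          · exact absurd (Fin.ext heq) hl
          · rw [map_smul, Ctx.fvec, hzero _ _ _ _ (show m < m - i + l.val by omega), smul_zero]
        · exact fun h' => absurd (mem_univ _) h'
      have := congrFun hc p.1
      rw [show p = (p.1, ⟨i, by omega⟩) from Prod.ext rfl (Fin.ext hp)]
      exact this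
    refine Submodule.sum_mem _ fun p _ => ?_
    by_cases hp : lo ≤ p.2.val
    · exact Submodule.smul_mem _ _ (Submodule.subset_span ⟨p, hp, rfl⟩)
    · rw [key _ p rfl (by omega), zero_smul]; exact zero_mem _
  have hsup : I ⊔ M = O.lev m x (fun i => lo ≤ i) := by
    rw [hI, hM, lev, lev, lev, ← Submodule.span_union, ← Set.image_union]
    congr 2
    ext p
    simp only [Set.mem_union, Set.mem_ofPred_eq]
    omega
  have hdisj : ∀ s ∈ I, s ∈ M → s = 0 := by
    have h := (O.fvec_indep hx).disjoint_span_image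
      (s := {p : Fin r × Fin (m + 1) | hi ≤ p.2.val}) (t := {p | lo ≤ p.2.val ∧ p.2.val < hi})
      (Set.disjoint_left.2 fun p (hp : hi ≤ p.2.val) (hp' : lo ≤ p.2.val ∧ p.2.val < hi) => by omega)
    exact fun s hs ht => Submodule.disjoint_def.1 h s hs ht
  rw [gsum_reduce h2 ha O.Qadd hIU hQI, hperp,
    gsum_sup h2 ha O.Qadd hsup hdisj (hgen _ _ fun i j hi' hj' => by omega), gsum_singular h2 ha O.Qadd hQI,
    Int.sign_mul, Int.sign_natCast_of_ne_zero Nat.card_pos.ne', one_mul]

theorem sign_blk {a₀ : F} (ha : IsASRep a₀) [Finite V] {a : Blk} {S : Submodule F V} (h : O.BlkData a₀ a S)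
    (hok : OkO a) : Int.sign (gsum O.Q S) = if a.bit then -1 else 1 := by
  classical
  have h2 := O.two
  have hq : 0 < Nat.card F := Nat.card_pos
  have hplane : ∀ {p r : V}, O.B p r = 1 → ∀ {t : F}, O.Q p * O.Q r = t → ∀ {P : Submodule F V},
      P = Submodule.span F {p, r} → Int.sign (gsum O.Q P) = psi t := by
    intro p r hpr t ht P hP
    rw [hP, gsum_plane h2 ha O.Qadd O.Qsmul O.alt hpr, Int.sign_mul, Int.sign_natCast_of_ne_zero hq.ne', one_mul, ht]
    unfold psi
    split_ifs <;> rfl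
  have hpsi : ∀ bit : Bool, psi (if bit = true then a₀ else 0) = if bit then -1 else 1 := fun bit => by
    cases bit
    · simp [psi_zero]
    · simp [psi_rep ha]
  rw [BlkData] at h
  split_ifs at h with hv
  · obtain ⟨k, v, hk, hd, rfl⟩ := h
    rw [O.sign_fam (VData.fam O hd) (lo := k) (hi := k + 2) (by omega) (by omega) (fun b i hi => by
      rw [Fin.fin_one_eq_zero b]
      simp only [Matrix.cons_val_fin_one]
      rw [hd.2, if_neg (by omega), if_neg (by omega)]) h2 ha, ← hpsi a.bit]
    refine hplane (p := O.E k v) (r := O.E (k + 1) v) ?_ ?_ ?_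
    · have e1 : O.B (O.E (2 * k + 1) v) v = 1 := by
        rw [O.E_self, if_neg (by omega), show (2 * k + 1) / 2 = k by omega, ← g_succ, hd.2, if_pos rfl]
      rcases O.BE v v k (k + 1) with e | e <;> rw [e, show k + (k + 1) = 2 * k + 1 by ring, e1]
    · rw [O.Q_E, O.Q_E, hd.2, hd.2, if_neg (show k ≠ k + 1 by omega), if_pos rfl, mul_one]
      exact if_congr ⟨fun h => h.2, fun h => ⟨rfl, h⟩⟩ rfl rfl
    · rw [lev]
      congr 1
      ext z
      simp only [Set.mem_image, Set.mem_ofPred_eq, Set.mem_insert_iff, Set.mem_singleton_iff]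
      constructor
      · rintro ⟨⟨i, l⟩, hl, rfl⟩
        simp only at hl
        rw [Fin.fin_one_eq_zero i, Ctx.fvec]
        rcases (show l.val = k ∨ l.val = k + 1 by omega) with e | e <;> simp [e]
      · rintro (rfl | rfl)
        · exact ⟨(0, ⟨k, by omega⟩), by simp only; omega, by simp [Ctx.fvec]⟩
        · exact ⟨(0, ⟨k + 1, by omega⟩), by simp only; omega, by simp [Ctx.fvec]⟩
  · obtain ⟨m, v, w, hm, hd, rfl⟩ := h
    have hfam := WData.fam O hd
    obtain ⟨-, -, fv, fw, hE⟩ := hd
    have hg0 : ∀ b i, m < 2 * i → O.g (![v, w] b) i = 0 := fun b i hi => by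
      fin_cases b <;> simp [fv, fw, show ¬ (2 * i = m) by omega]
    rcases Nat.even_or_odd' m with ⟨k, rfl | rfl⟩
    · rw [O.sign_fam hfam (lo := k) (hi := k + 1) (by omega) (by omega) (fun b i hi => hg0 b i (by omega)) h2 ha,
        ← hpsi a.bit]
      refine hplane (p := O.E k v) (r := O.E k w) ?_ ?_ ?_
      · rcases O.BE v w k k with e | e <;> rw [e, show k + k = 2 * k by ring]
        · rw [hE, if_pos rfl]
        · rw [O.E_even, O.Zpow_adj, O.symm, ← O.E_even, hE, if_pos rfl]
      · rw [O.Q_E, O.Q_E, fv, fw]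
        cases a.bit <;> simp
      · rw [lev]
        congr 1
        ext z
        simp only [Set.mem_image, Set.mem_ofPred_eq, Set.mem_insert_iff, Set.mem_singleton_iff]
        constructor
        · rintro ⟨⟨i, l⟩, hl, rfl⟩
          simp only at hl
          rw [Ctx.fvec, show l.val = k by omega]
          fin_cases i <;> simp
        · rintro (rfl | rfl)
          · exact ⟨(0, ⟨k, by omega⟩), by simp only; omega, by simp [Ctx.fvec]⟩
          · exact ⟨(1, ⟨k, by omega⟩), by simp only; omega, by simp [Ctx.fvec]⟩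
    · have hbit : a.bit = false := by
        cases hb : a.bit
        · rfl
        · have ho := hok.2.2 hb (by simpa using hv)
          rw [Nat.odd_iff] at ho; omega
      rw [O.sign_fam hfam (lo := k + 1) (hi := k + 1) le_rfl (by omega) (fun b i hi => hg0 b i (by omega)) h2 ha,
        show O.lev (2 * k + 1) ![v, w] (fun i => k + 1 ≤ i ∧ i < k + 1) = ⊥ by
          rw [lev, show {p : Fin 2 × Fin (2 * k + 1 + 1) | k + 1 ≤ p.2.val ∧ p.2.val < k + 1} = ∅ from
            Set.eq_empty_of_forall_notMem fun p hp => by simp only [Set.mem_ofPred_eq] at hp; omega,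
            Set.image_empty, Submodule.span_empty],
        gsum_singular h2 ha O.Qadd fun y hy => by rw [(Submodule.mem_bot F).1 hy, O.Q_zero]]
      simp [hbit]

theorem sign_form {a₀ : F} (ha : IsASRep a₀) [Finite V] : ∀ {L : List Blk} {U : Submodule F V}, O.Piece U →
    AdmO L → O.HasForm a₀ L U → Int.sign (gsum O.Q U) = if par L then -1 else 1
  | [], U, _, _, h => by
    obtain rfl : U = ⊥ := h
    rw [gsum_singular O.two ha O.Qadd fun y hy => by rw [(Submodule.mem_bot F).1 hy, O.Q_zero]]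
    simp [par]
  | a :: R, U, hU, hA, ⟨S, hS, hSU, hR⟩ => by
    obtain ⟨r, m, x, hx, hSx, -, -, -⟩ := BlkData.exists_fam O hS
    subst hSx
    have hxU : ∀ i, x i ∈ U := fun i => hSU (O.mem_spanE_self x i)
    obtain ⟨hrest, hsup⟩ := O.rest hU hx hxU
    have hd : ∀ s ∈ O.spanE m x, s ∈ U ⊓ O.orth (O.spanE m x) → s = 0 := fun s hs hs' =>
      (O.span_piece hx).nd s hs fun t ht => by rw [O.symm]; exact O.mem_orth.1 hs'.2 t ht
    rw [gsum_sup O.two ha O.Qadd hsup hd (fun s hs t ht => O.mem_orth.1 ht.2 s hs), Int.sign_mul,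
      sign_blk O ha hS hA.2.1, sign_form ha hrest hA.1 hR]
    simp only [par, List.foldr_cons]
    rcases Bool.eq_false_or_eq_true a.bit with h | h <;>
      rcases Bool.eq_false_or_eq_true (List.foldr (fun a x => xor a.bit x) false R) with h' | h' <;>
      simp [h, h']

end OCtx

end Cfsg.Agent.OrthEven
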