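import Cfsg.Agent.SympTwo.ClassNumber
import Cfsg.Agent.OrthEven.Normal
import Cfsg.Agent.OrthEven.Gauss
import Cfsg.Agent.Classical.QuadMat

/-!
# The class number of the orthogonal groups in even dimension and characteristic two: upper bound
-/

set_option autoImplicit false

namespace Cfsg.Agent.OrthEven

open Module Polynomial
open Cfsg.Agent.ClassNumberGL Cfsg.Agent.SympConj Cfsg.Agent.USeq Cfsg.Agent.FormClass Cfsg.Agent.Classical
open Cfsg.Agent.SympTwo

universe u v w

section Gsum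

variable {F : Type u} [Field F]

/-- Gauss sums only depend on the values on the subspace. -/
theorem gsum_map {V : Type v} [AddCommGroup V] [Module F V] {W : Type w} [AddCommGroup W] [Module F W]
    {Q : V → F} {Q' : W → F} {U : Submodule F V} {U' : Submodule F W} (e : U ≃ₗ[F] U')
    (he : ∀ x : U, Q' (e x) = Q x) : gsum Q U = gsum Q' U' := by
  rw [gsum, gsum, ← finsum_comp_equiv e.toEquiv (f := fun y : U' => psi (Q' y))]
  exact finsum_congr fun x => by rw [LinearEquiv.coe_toEquiv, he]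

theorem gsum_top {V : Type v} [AddCommGroup V] [Module F V] (Q : V → F) (U : Submodule F V) :
    gsum (fun x : U => Q x.1) ⊤ = gsum Q U :=
  gsum_map Submodule.topEquiv fun _ => rfl

end Gsum

variable {F : Type u} [Field F] [Fintype F]

/-- Signed forms with equal sequences and no eigenvalue one are isometric compatibly with the operators. -/
theorem exists_equiv_of_seq (h2 : (2 : F) = 0) {P P' : Type u} [AddCommGroup P] [Module F P]
    [FiniteDimensional F P] [AddCommGroup P'] [Module F P'] [FiniteDimensional F P']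
    {S : LinearMap.BilinForm F P} {S' : LinearMap.BilinForm F P'} {a : Module.End F P} {b : Module.End F P'}
    (hS : Signed (-1) S a) (hS' : Signed (-1) S' b) (hinj : Function.Injective (a - 1 : Module.End F P))
    (hdim : finrank F P' = finrank F P) {k : ℕ} {g : Fin k → F[X]} (hk : k = finrank F P) (hg : HasSeq a k g)
    (hg' : HasSeq b k g) :
    ∃ e : P ≃ₗ[F] P', (∀ x y, S' (e x) (e y) = S x y) ∧ ∀ x, e (a x) = b (e x) := by
  classical
  have hc : (-1 : F) * (-1) = 1 := by ring
  subst hk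
  let eP0 : P ≃ₗ[F] P' := LinearEquiv.ofFinrankEq _ _ hdim.symm
  set a' : Module.End F P := eP0.symm.toLinearMap ∘ₗ b ∘ₗ eP0.toLinearMap with ha'
  have hseq : HasSeq a' (finrank F P) g := hasSeq_of_conj eP0 (fun x => by simp [a']) hg'
  obtain ⟨Θ, hΘ⟩ := conj_of_hasSeq _ _ hg hseq
  set e1 : P ≃ₗ[F] P' := Θ.trans eP0
  have he1 : ∀ x, e1 (a x) = b (e1 x) := fun x => by simp [e1, hΘ, a']
  set T : LinearMap.BilinForm F P := S'.comp e1.toLinearMap e1.toLinearMap
  have hT : Signed (-1) T a :=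
    ⟨fun x y => hS'.flip _ _, fun x hx => e1.map_eq_zero_iff.1 (hS'.sep _ fun y => by
      obtain ⟨y, rfl⟩ := e1.surjective y; exact hx y), fun x y => by
      change S' (e1 (a x)) (e1 (a y)) = _
      rw [he1, he1]; exact hS'.pres _ _⟩
  have hinj' : Function.Injective (a + 1 : Module.End F P) := by
    have : (a + 1 : Module.End F P) = a - 1 := LinearMap.ext fun x => by
      rw [LinearMap.add_apply, LinearMap.sub_apply, sub_eq_add_neg, ← neg_one_smul F, show (-1 : F) = 1 by
        linear_combination -h2, one_smul]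
    rwa [this]
  obtain ⟨y, hyc, hy⟩ := exists_of_injective hc hS hT hinj hinj'
  have hyinj := injective_of_comp hT hy
  let Y := LinearEquiv.ofBijective y ⟨hyinj, LinearMap.injective_iff_surjective.1 hyinj⟩
  refine ⟨Y.symm.trans e1, fun x z => ?_, fun x => ?_⟩
  · obtain ⟨x, rfl⟩ := Y.surjective x
    obtain ⟨z, rfl⟩ := Y.surjective z
    show S' (e1 (Y.symm (Y x))) (e1 (Y.symm (Y z))) = _
    rw [LinearEquiv.symm_apply_apply, LinearEquiv.symm_apply_apply]
    exact (hy x z).symm
  · obtain ⟨x, rfl⟩ := Y.surjective x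
    have : Y.symm (a (Y x)) = a x := by
      apply Y.injective
      rw [LinearEquiv.apply_symm_apply]
      exact (LinearMap.congr_fun hyc.eq x).symm
    show e1 (Y.symm (a (Y x))) = b (e1 (Y.symm (Y x)))
    rw [this, he1, LinearEquiv.symm_apply_apply]

variable {V : Type u} [AddCommGroup V] [Module F V] [FiniteDimensional F V] (Q : QuadraticForm F V)

/-- The polar form as a bilinear form. -/
noncomputable abbrev polB : LinearMap.BilinForm F V := QuadraticMap.polarBilin Q

omit [Fintype F] [FiniteDimensional F V] in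
theorem Q_add (x y : V) : Q (x + y) = Q x + Q y + polB Q x y := QuadraticMap.map_add Q x y

omit [Fintype F] [FiniteDimensional F V] in
theorem Q_smul (c : F) (x : V) : Q (c • x) = c ^ 2 * Q x := by
  rw [QuadraticMap.map_smul, smul_eq_mul, sq]

omit [Fintype F] [FiniteDimensional F V] in
theorem polB_self (h2 : (2 : F) = 0) (x : V) : polB Q x x = 0 := by
  show QuadraticMap.polar Q x x = 0
  rw [QuadraticMap.polar_self, nsmul_eq_mul, Nat.cast_ofNat, h2, zero_mul]

omit [Fintype F] [FiniteDimensional F V] in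
theorem good_orth (h2 : (2 : F) = 0) (hnd : (polB Q).Nondegenerate) {a : Module.End F V}
    (ha : ∀ x, Q (a x) = Q x) : Good (polB Q) a :=
  ⟨polB_self Q h2, fun x hx => hnd.1 x hx, fun x y => by
    simp only [QuadraticMap.polarBilin_apply_apply, QuadraticMap.polar, ← map_add, ha]⟩

/-- The invariant of an isometry. -/
def Inv (a₀ : F) (a : Module.End F V) (n : ℕ) (L : List Blk) (h : List F[X]) : Prop :=
  ∃ (K P : Submodule F V) (hS : Split (1 : F) a K P) (O : OCtx F K) (g : Seqs F 1 (finrank F P) (finrank F P)),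
    O.B = (polB Q).restrict K ∧ O.φ = a.restrict hS.invK ∧ O.Q = (fun x : K => Q x.1) ∧
    AdmO L ∧ O.HasForm a₀ L ⊤ ∧
    finrank F K = 2 * wts L ∧ finrank F P = 2 * (n - wts L) ∧ wts L ≤ n ∧
    HasSeq (a.restrict hS.invP) (finrank F P) g.1 ∧
    (∀ j, SelfRec (g.1 j) ∧ (g.1 j).eval 1 ≠ 0) ∧ h = List.ofFn fun j => half (g.1 j)

theorem exists_inv (h2 : (2 : F) = 0) {a₀ : F} (ha : IsASRep a₀) (hnd : (polB Q).Nondegenerate)
    {a : Module.End F V} (hQ : ∀ x, Q (a x) = Q x) {n : ℕ} (hn : finrank F V = 2 * n) :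
    ∃ L h, AdmO L ∧ wts L ≤ n ∧ Inv Q a₀ a n L h ∧
      ∃ g : Seqs F 1 (n - wts (clr L)) (2 * (n - wts (clr L))), h = List.ofFn g.1 := by
  classical
  have hB := good_orth Q h2 hnd hQ
  have hc : (-1 : F) * (-1) = 1 := by ring
  obtain ⟨K, P, hS⟩ := exists_decomp a (1 : F)
  obtain ⟨hK, hP⟩ := hS.signed (one_mul 1) hc hB.signed
  have hKgood : Good ((polB Q).restrict K) (a.restrict hS.invK) := ⟨fun x => hB.alt x.1, hK.sep, hK.pres⟩
  obtain ⟨d, hd⟩ := hS.nilpotent (one_mul 1)
  obtain ⟨Cx, hCB, hCφ⟩ := SympTwo.exists_ctx h2 hKgood ⟨d, by rwa [one_smul] at hd⟩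
  let O : OCtx F K :=
    { Cx with
      Q := fun x => Q x.1
      Qsmul := fun c x => Q_smul Q c x.1
      Qadd := fun x y => by rw [hCB]; exact Q_add Q x.1 y.1
      Qφ := fun x => by rw [hCφ]; exact hQ x.1 }
  obtain ⟨L, hL, hform⟩ := O.exists_form ha _ O.piece_top rfl
  have hKdim : finrank F K = 2 * wts L := by
    rw [← O.finrank_eq O.piece_top hform, finrank_top]
  have hsum := Submodule.finrank_add_eq_of_isCompl hS.compl
  have hPdim : finrank F P = 2 * (n - wts L) := by omega
  obtain ⟨g, hg⟩ := exists_seq (a.restrict hS.invP) hP.injective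
  have hprop : ∀ j, SelfRec (g.1 j) ∧ (g.1 j).eval 1 ≠ 0 := by
    intro j
    refine ⟨⟨(g.2.1 j).1, (g.2.1 j).2, dual_fix_signed hc hP hg j⟩, fun h => ?_⟩
    have hdvd : X - C (1 : F) ∣ g.1 j := dvd_iff_isRoot.2 h
    have hk := ClassSeq.finrank_ker hg (monic_X_sub_C (1 : F)) (irreducible_X_sub_C 1) 1
    have h0 : LinearMap.ker (aeval (a.restrict hS.invP) ((X - C (1 : F)) ^ 1)) = ⊥ := by
      refine (Submodule.eq_bot_iff _).2 fun x hx => Subtype.ext (hS.inj x.1 x.2 ?_)
      rw [LinearMap.mem_ker, pow_one, map_sub, aeval_X, aeval_C, LinearMap.sub_apply, sub_eq_zero] at hx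
      simpa using congrArg Subtype.val hx
    rw [h0, finrank_bot, natDegree_X_sub_C, one_mul, eq_comm, Finset.sum_eq_zero_iff] at hk
    have h1 := hk j (Finset.mem_univ _)
    rw [min_eq_right (by omega), one_mul, Multiset.count_eq_zero] at h1
    obtain ⟨r, hr, hrd⟩ := UniqueFactorizationMonoid.exists_mem_normalizedFactors_of_dvd (g.2.1 j).1.ne_zero
      (irreducible_X_sub_C (1 : F)) hdvd
    have hrm : r.Monic := by
      rw [← UniqueFactorizationMonoid.normalize_normalized_factor _ hr]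
      exact monic_normalize (UniqueFactorizationMonoid.irreducible_of_normalized_factor _ hr).ne_zero
    exact h1 (eq_of_monic_of_associated (monic_X_sub_C 1) hrm hrd ▸ hr)
  refine ⟨L, _, hL, by omega,
    ⟨K, P, hS, O, g, hCB, hCφ, rfl, hL, hform, hKdim, hPdim, by omega, hg, hprop, rfl⟩, ?_⟩
  rw [wts_clr]
  refine ⟨⟨fun j => half (g.1 (Fin.cast hPdim.symm j)), fun j => ?_, ?_⟩, ?_⟩
  · obtain ⟨e1, -, e3, -⟩ := half_props h2 (hprop (Fin.cast hPdim.symm j)).1 (hprop _).2
    exact ⟨e1, e3⟩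
  · have h : ∑ i : Fin (finrank F P), (1 + (i : ℕ)) * (2 * (half (g.1 i)).natDegree) = finrank F P := by
      refine (Finset.sum_congr rfl fun i _ => ?_).trans g.2.2
      obtain ⟨-, e2, -, ⟨r, hr⟩, -⟩ := half_props h2 (hprop i).1 (hprop i).2
      rw [e2]
      congr 1
      omega
    have h' : ∑ i : Fin (finrank F P), (1 + (i : ℕ)) * (half (g.1 i)).natDegree = n - wts L := by
      have : 2 * ∑ i : Fin (finrank F P), (1 + (i : ℕ)) * (half (g.1 i)).natDegree = 2 * (n - wts L) := by
        rw [Finset.mul_sum, ← hPdim]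
        refine Eq.trans (Finset.sum_congr rfl fun i _ => ?_) h
        ring
      omega
    exact (Fintype.sum_equiv (finCongr hPdim.symm) _ _ fun i => rfl).trans h'
  · exact List.ext_getElem (by simp [hPdim]) fun i h1 h2 => by simp

theorem conj_of_inv (h2 : (2 : F) = 0) {a₀ : F} (hr : IsASRep a₀) (hnd : (polB Q).Nondegenerate)
    {a b : Module.End F V} (hQa : ∀ x, Q (a x) = Q x) (hQb : ∀ x, Q (b x) = Q x)
    {n : ℕ} {L L' : List Blk} {h : List F[X]} (hL : clr L = clr L') (ha : Inv Q a₀ a n L h)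
    (hb : Inv Q a₀ b n L' h) :
    ∃ Θ : V ≃ₗ[F] V, (∀ x, Q (Θ x) = Q x) ∧ ∀ x, Θ (a x) = b (Θ x) := by
  classical
  have : Finite V := Module.finite_of_finite F
  have hB := good_orth Q h2 hnd hQa
  have hB' := good_orth Q h2 hnd hQb
  obtain ⟨K, P, hS, C, g, hCB, hCφ, hCQ, hA, hf, hK, hP, hw, hg, hgp, rfl⟩ := ha
  obtain ⟨K', P', hS', C', g', hCB', hCφ', hCQ', hA', hf', hK', hP', -, hg', hgp', e⟩ := hb
  have hwts : wts L = wts L' := by rw [← wts_clr L, hL, wts_clr]
  rw [← hwts] at hP' hK'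
  have hc : (-1 : F) * (-1) = 1 := by ring
  -- the parts without the eigenvalue one
  obtain ⟨hBK, hBP⟩ := hS.signed (one_mul 1) hc hB.signed
  obtain ⟨hBK', hBP'⟩ := hS'.signed (one_mul 1) hc hB'.signed
  have hdim : finrank F P' = finrank F P := hP'.trans hP.symm
  have hgg : ∀ j : Fin (finrank F P), g.1 j = g'.1 (Fin.cast hdim.symm j) := fun j => by
    have e1 : half (g.1 j) = half (g'.1 (Fin.cast hdim.symm j)) := by
      have := congrArg (fun l : List F[X] => l[(j : ℕ)]?) e
      simpa [List.getElem?_ofFn, hdim] using this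
    exact (half_props h2 (hgp' _).1 (hgp' _).2).2.2.2.2 _ (hgp j).1 (hgp j).2 e1
  have key : ∀ (p p' : ℕ) (g : Fin p → F[X]) (g' : Fin p' → F[X]) (e : p' = p),
      (∀ j, g j = g' (Fin.cast e.symm j)) → HasSeq (b.restrict hS'.invP) p' g' → HasSeq (b.restrict hS'.invP) p g := by
    intro p p' g g' e hgg hh
    subst e
    rwa [show g = g' from funext hgg]
  have hinj : Function.Injective (a.restrict hS.invP - 1 : Module.End F P) :=
    (injective_iff_map_eq_zero _).2 fun z hz => by
      refine Subtype.ext (hS.inj _ z.2 ?_)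
      rw [LinearMap.sub_apply, Module.End.one_apply, sub_eq_zero] at hz
      rw [one_smul]; exact congrArg Subtype.val hz
  obtain ⟨eP, hPB', hPa'⟩ := exists_equiv_of_seq h2 hBP hBP' hinj hdim rfl hg (key _ _ g.1 g'.1 hdim hgg hg')
  have hPB : ∀ x y : P, polB Q (eP x).1 (eP y).1 = polB Q x.1 y.1 := hPB'
  have hPa : ∀ x : P, (eP (a.restrict hS.invP x)).1 = b (eP x).1 := fun x => congrArg Subtype.val (hPa' x)
  -- the form is preserved there
  have hPQ : ∀ x : P, Q (eP x).1 = Q x.1 := by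
    intro x
    obtain ⟨y, rfl⟩ := LinearMap.injective_iff_surjective.1 hinj x
    have hy : (a.restrict hS.invP - 1 : Module.End F P) y = a.restrict hS.invP y - y := rfl
    have hsub : ∀ u w : V, Q (u - w) = Q u + Q w + polB Q u w := fun u w => by
      rw [sub_eq_add_neg, ← neg_one_smul F w, show (-1 : F) = 1 by linear_combination -h2, one_smul, Q_add]
    rw [hy, map_sub, Submodule.coe_sub, Submodule.coe_sub, hsub, hsub, hPB, hPa, hQb,
      show (a.restrict hS.invP y : V) = a y.1 from rfl, hQa]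
    linear_combination (Q (eP y).1 - Q y.1) * h2
  -- the unipotent parts have the same sign
  have hsum : ∀ {c : Module.End F V} {K P : Submodule F V} (hS : Split (1 : F) c K P), Good (polB Q) c →
      gsum Q ⊤ = gsum Q K * gsum Q P := fun hS hG =>
    gsum_sup h2 hr (Q_add Q) hS.compl.sup_eq_top (fun x hx hx' => Submodule.disjoint_def.1 hS.compl.disjoint x hx hx')
      fun s hs r hr' => (hS.orth (one_mul 1) hc hG.signed s hs r hr').1
  have hgP : gsum Q P = gsum Q P' := gsum_map eP hPQ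
  have hgK : gsum Q K = gsum Q K' := by
    refine mul_right_cancel₀ (gsum_ne_zero h2 hr (Q_add Q) (Q_smul Q) fun x hx h0 => ?_ : gsum Q P ≠ 0) ?_
    · exact congrArg Subtype.val (hBP.sep ⟨x, hx⟩ fun y => h0 y.1 y.2)
    · rw [← hsum hS hB, hgP, ← hsum hS' hB']
  have hpar : par L = par L' := by
    have e1 := C.sign_form hr C.piece_top hA hf
    have e2 := C'.sign_form hr C'.piece_top hA' hf'
    rw [hCQ, gsum_top Q K] at e1
    rw [hCQ', gsum_top Q K', ← hgK, e1] at e2
    revert e2
    cases par L <;> cases par L' <;> simp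
  obtain rfl := clr_inj hL hpar
  -- the unipotent parts
  obtain ⟨θ, -, hθN, hθB, -, hθQ⟩ := oIsoOn_of_form C C' C.piece_top C'.piece_top hf hf'
  have hθinj : Function.Injective θ := (injective_iff_map_eq_zero θ).2 fun x hx => C.sep x fun y => by
    rw [← hθB x trivial y trivial, hx, map_zero, LinearMap.zero_apply]
  let eK : K ≃ₗ[F] K' := LinearEquiv.ofBijective θ
    ⟨hθinj, (LinearMap.injective_iff_surjective_of_finrank_eq_finrank (hK.trans hK'.symm)).1 hθinj⟩
  have hKQ : ∀ x : K, Q (eK x).1 = Q x.1 := fun x => by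
    have := hθQ x trivial
    rw [hCQ, hCQ'] at this
    exact this
  have hKa : ∀ x : K, (eK (a.restrict hS.invK x)).1 = b (eK x).1 := fun x => by
    have h1 := hθN x trivial
    rw [C.N_apply, C'.N_apply, map_add, hCφ, hCφ'] at h1
    exact congrArg Subtype.val (add_right_cancel h1)
  -- glue
  let E := Submodule.prodEquivOfIsCompl K P hS.compl
  let E' := Submodule.prodEquivOfIsCompl K' P' hS'.compl
  let Φ := E.symm.trans ((eK.prodCongr eP).trans E')
  have hΦ : ∀ (u : K) (p : P), Φ (u.1 + p.1) = (eK u).1 + (eP p).1 := fun u p => by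
    have h1 : E (u, p) = u.1 + p.1 := by simp [E]
    rw [← h1]
    simp [Φ, E']
  have hdec : ∀ x : V, ∃ (u : K) (p : P), x = u.1 + p.1 := fun x =>
    ⟨(E.symm x).1, (E.symm x).2, by
      conv_lhs => rw [← E.apply_symm_apply x]
      simp [E]⟩
  refine ⟨Φ, fun x => ?_, fun x => ?_⟩
  · obtain ⟨u, p, rfl⟩ := hdec x
    rw [hΦ, Q_add, Q_add, hKQ, hPQ, (hS.orth (one_mul 1) hc hB.signed _ u.2 _ p.2).1,
      (hS'.orth (one_mul 1) hc hB'.signed _ (eK u).2 _ (eP p).2).1]
  · obtain ⟨u, p, rfl⟩ := hdec x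
    rw [map_add a, show a u.1 = (a.restrict hS.invK u).1 from rfl, show a p.1 = (a.restrict hS.invP p).1 from rfl,
      hΦ, hΦ, hKa, hPa, map_add b]

open QuadraticMap in
/-- The class number of an orthogonal group in dimension `2n`, `q` even, is at most `15 q ^ n`. -/
theorem card_conjClasses_le {ι : Type} [Fintype ι] [DecidableEq ι] (h2 : (2 : F) = 0)
    (Q : QuadraticForm F (ι → F)) (hnd : (polarBilin Q).Nondegenerate) {n : ℕ} (hι : Fintype.card ι = 2 * n) :
    Nat.card (ConjClasses (Cfsg.isometryGroup F ⇑Q)) ≤ 15 * Fintype.card F ^ n := by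
  classical
  obtain ⟨a₀, ha⟩ := exists_asRep (F := F) h2
  set q := Fintype.card F
  have hq : 2 ≤ q := Fintype.one_lt_card
  set G := Cfsg.isometryGroup F ⇑Q
  let op : G → Module.End F (ι → F) := fun A => (Quad.oEquiv Q A).1.toLinearMap
  have hop : ∀ A x, Q (op A x) = Q x := fun A => (Quad.oEquiv Q A).2
  choose L h hL hwle hI g hg using fun A : G =>
    exists_inv Q h2 ha hnd (hop A) (n := n) ((Module.finrank_fintype_fun_eq_card F).trans hι)
  haveI : Fintype (ConjClasses G) := Fintype.ofFinite _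
  set s : Finset (List Blk) := Finset.univ.image fun c : ConjClasses G => clr (L c.out) with hs
  let Φ : ConjClasses G → Σ L : s, Seqs F 1 (n - wts L.1) (2 * (n - wts L.1)) := fun c =>
    ⟨⟨clr (L c.out), Finset.mem_image.2 ⟨c, Finset.mem_univ _, rfl⟩⟩, g c.out⟩
  haveI : ∀ L : s, Finite (Seqs F 1 (n - wts L.1) (2 * (n - wts L.1))) := fun L => (seqs_le _ 1 _ le_rfl).1
  have hΦ : Function.Injective Φ := by
    intro c d e
    have e1 : clr (L c.out) = clr (L d.out) :=
      congrArg (fun x : Σ L : s, Seqs F 1 (n - wts L.1) (2 * (n - wts L.1)) => x.1.1) e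
    have e2 : h c.out = h d.out := by
      rw [hg, hg]
      exact congrArg (fun x : Σ L : s, Seqs F 1 (n - wts L.1) (2 * (n - wts L.1)) => List.ofFn x.2.1) e
    obtain ⟨Θ, hB, hΘ⟩ := conj_of_inv Q h2 ha hnd (hop _) (hop _) e1 (hI c.out) (e2.symm ▸ hI d.out)
    rw [← Quotient.out_eq c, ← Quotient.out_eq d]
    refine ConjClasses.mk_eq_mk_iff_isConj.2 ?_
    let U : Quad.oG Q := ⟨Θ, hB⟩
    have h3 : IsConj (Quad.oEquiv Q c.out) (Quad.oEquiv Q d.out) := isConj_iff.2 ⟨U, by
      rw [mul_inv_eq_iff_eq_mul]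
      exact Subtype.ext (LinearEquiv.ext hΘ)⟩
    simpa using (Quad.oEquiv Q).symm.toMonoidHom.map_isConj h3
  have h1 : Nat.card (ConjClasses G) ≤ ∑ L : s, q ^ (n - wts L.1) := by
    refine (Nat.card_le_card_of_injective Φ hΦ).trans ?_
    rw [Nat.card_sigma]
    exact Finset.sum_le_sum fun L _ => ((seqs_le _ 1 _ le_rfl).2).trans (AA_one_le (by omega) _)
  have h2' : (Nat.card (ConjClasses G) : ℚ) ≤ 15 * (q : ℚ) ^ n := by
    calc (Nat.card (ConjClasses G) : ℚ) ≤ ∑ L : s, (q : ℚ) ^ (n - wts L.1) := by exact_mod_cast h1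
      _ ≤ ∑ L : s, (q : ℚ) ^ n * sw L.1 := by
          gcongr with L _
          obtain ⟨c, -, hc⟩ := Finset.mem_image.1 L.2
          have hw : wts L.1 ≤ n := hc ▸ (wts_clr _).trans_le (hwle _)
          have hqq : (2 : ℚ) ^ wts L.1 ≤ (q : ℚ) ^ wts L.1 := pow_le_pow_left₀ (by norm_num) (by exact_mod_cast hq) _
          rw [sw, one_div, inv_pow, le_mul_inv_iff₀ (by positivity)]
          calc (q : ℚ) ^ (n - wts L.1) * 2 ^ wts L.1 ≤ (q : ℚ) ^ (n - wts L.1) * (q : ℚ) ^ wts L.1 := by gcongr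
            _ = _ := by rw [← pow_add, Nat.sub_add_cancel hw]
      _ ≤ (q : ℚ) ^ n * 15 := by
          rw [← Finset.mul_sum, Finset.sum_coe_sort s sw]
          gcongr
          refine sum_sw_le s fun L' hL' => ?_
          obtain ⟨c, -, rfl⟩ := Finset.mem_image.1 hL'
          exact ⟨admO_clr (hL _), low_clr (hL _)⟩
      _ = _ := by ring
  exact_mod_cast h2'

end Cfsg.Agent.OrthEven
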