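import Cfsg.Agent.OrthEven.Model
import Cfsg.Agent.Classical.QuadMat
import Cfsg.Agent.Classical.QuadStd

/-!
# The class number of the orthogonal groups in even dimension and characteristic two: lower bound

Every monic `g` of degree `n` gives, for one or both types, an isometry `φ` such that `φ + φ⁻¹` has
characteristic polynomial `g ^ 2`.
-/

set_option autoImplicit false

namespace Cfsg.Agent.OrthEven

open Module Polynomial
open Cfsg.Agent.SympTwo Cfsg.Agent.Classical QuadraticMap

universe u v w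

variable {F : Type u} [Field F]

/-- The polynomial is that of `φ + φ⁻¹` for an isometry `φ`. -/
def Real {V : Type v} [AddCommGroup V] [Module F V] [FiniteDimensional F V] (Q : QuadraticForm F V) (f : F[X]) :
    Prop :=
  ∃ φ : V ≃ₗ[F] V, (∀ x, Q (φ x) = Q x) ∧ (φ.toLinearMap + φ.symm.toLinearMap).charpoly = f

variable {V : Type v} [AddCommGroup V] [Module F V] [FiniteDimensional F V]
  {W : Type w} [AddCommGroup W] [Module F W] [FiniteDimensional F W]

theorem Real.of_iso {Q : QuadraticForm F V} {Q' : QuadraticForm F W} {f : F[X]} (h : Real Q f)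
    (e : Quad.Iso Q Q') : Real Q' f := by
  obtain ⟨φ, hφ, rfl⟩ := h
  obtain ⟨e, he⟩ := e
  refine ⟨e.symm.trans (φ.trans e), fun x => ?_, ?_⟩
  · rw [LinearEquiv.trans_apply, LinearEquiv.trans_apply, he, hφ, ← he, LinearEquiv.apply_symm_apply]
  · rw [← LinearEquiv.charpoly_conj e (φ.toLinearMap + φ.symm.toLinearMap)]
    congr 1
    ext x
    simp [LinearEquiv.conj_apply]

theorem Real.prod {Q : QuadraticForm F V} {Q' : QuadraticForm F W} {f f' : F[X]} (h : Real Q f)
    (h' : Real Q' f') : Real (Q.prod Q') (f * f') := by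
  obtain ⟨φ, hφ, rfl⟩ := h
  obtain ⟨ψ', hψ, rfl⟩ := h'
  refine ⟨φ.prodCongr ψ', fun x => by simp [hφ, hψ], ?_⟩
  rw [← LinearMap.charpoly_prodMap]
  congr 1

theorem real_one (h2 : (2 : F) = 0) (Q : QuadraticForm F V) : Real Q (X ^ finrank F V) := by
  refine ⟨LinearEquiv.refl F V, fun x => rfl, ?_⟩
  rw [show ((LinearEquiv.refl F V).toLinearMap + (LinearEquiv.refl F V).symm.toLinearMap) = 0 from
    LinearMap.ext fun x => by simp [← two_smul F x, h2], LinearMap.charpoly_zero]

omit [FiniteDimensional F V] [FiniteDimensional F W] in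
theorem nondeg_prod {Q : QuadraticForm F V} {Q' : QuadraticForm F W} (h : (polarBilin Q).Nondegenerate)
    (h' : (polarBilin Q').Nondegenerate) : (polarBilin (Q.prod Q')).Nondegenerate := by
  refine Quad.nondeg_of fun x hx => Prod.ext (Quad.eq_zero_of_polar h fun y => ?_) (Quad.eq_zero_of_polar h' fun y => ?_)
  · simpa [polar_prod] using hx (y, 0)
  · simpa [polar_prod] using hx (0, y)

/-! ## Gauss sums and types -/

variable [Finite F] (h2 : (2 : F) = 0) {a₀ : F} (ha : IsASRep a₀)
include h2 ha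

omit [FiniteDimensional F V] [FiniteDimensional F W] [Finite F] h2 ha in
theorem gsum_univ [Fintype V] (Q : V → F) : gsum Q (⊤ : Submodule F V) = ∑ x : V, psi (Q x) := by
  rw [gsum, ← finsum_eq_sum_of_fintype]
  exact finsum_comp_equiv Submodule.topEquiv.toEquiv (f := fun x : V => psi (Q x))

theorem gsum_prod (Q : QuadraticForm F V) (Q' : QuadraticForm F W) :
    gsum (⇑(Q.prod Q')) ⊤ = gsum (⇑Q) ⊤ * gsum (⇑Q') ⊤ := by
  classical
  have := Module.finite_of_finite F (M := V)
  have := Module.finite_of_finite F (M := W)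
  have : Fintype V := Fintype.ofFinite V
  have : Fintype W := Fintype.ofFinite W
  rw [gsum_univ, gsum_univ, gsum_univ, Fintype.sum_prod_type, Finset.sum_mul_sum]
  simp [psi_add h2 ha]

omit [Finite F] [FiniteDimensional F V] h2 ha in
theorem q_smul (Q : QuadraticForm F V) (c : F) (x : V) : Q (c • x) = c ^ 2 * Q x := by
  rw [QuadraticMap.map_smul, smul_eq_mul, pow_two]

theorem gsum_zcard [Fintype F] (Q : QuadraticForm F V) :
    (Fintype.card F : ℤ) * Quad.zcard Q = Nat.card V + ((Fintype.card F : ℤ) - 1) * gsum (⇑Q) ⊤ := by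
  classical
  have := Module.finite_of_finite F (M := V)
  have : Fintype V := Fintype.ofFinite V
  have h1 : ∀ x : V, ∑ c : F, psi (c * Q x) = if Q x = 0 then (Fintype.card F : ℤ) else 0 := fun x => by
    split_ifs with hx
    · simp [hx, psi_zero]
    · have := sum_psi_eq_zero h2 ha (LinearMap.mulRight F (Q x)) (w := (1 : F)) (by simpa using hx)
      simpa using this
  have hc : ∀ c : F, c ≠ 0 → ∑ x : V, psi (c * Q x) = ∑ x : V, psi (Q x) := fun c hc => by
    obtain ⟨r, rfl⟩ := exists_sqrt h2 c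
    have hr : r ≠ 0 := fun h => hc (by simp [h])
    refine Fintype.sum_equiv (LinearEquiv.smulOfNeZero F V r hr).toEquiv _ _ fun x => ?_
    rw [LinearEquiv.coe_toEquiv, LinearEquiv.smulOfNeZero_apply, q_smul]
  have h3 : ∑ x : V, ∑ c : F, psi (c * Q x) = (Fintype.card F : ℤ) * Quad.zcard Q := by
    rw [Finset.sum_congr rfl fun x _ => h1 x, ← Finset.sum_filter, Finset.sum_const, Quad.zcard,
      Nat.card_eq_fintype_card, Fintype.card_subtype, nsmul_eq_mul, mul_comm]
  rw [← h3, Finset.sum_comm, ← Finset.add_sum_erase _ _ (Finset.mem_univ (0 : F)),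
    Finset.sum_congr rfl fun c hc' => hc c (Finset.ne_of_mem_erase hc'), Finset.sum_const, gsum_univ,
    nsmul_eq_mul, Finset.card_erase_of_mem (Finset.mem_univ _), Finset.card_univ]
  simp only [zero_mul, psi_zero, Finset.sum_const, Finset.card_univ, nsmul_one, Nat.card_eq_fintype_card]
  rw [Nat.cast_sub Fintype.card_pos, Nat.cast_one]

theorem sign_plus (m : ℕ) : 0 < gsum (⇑(Quad.hyp (Quad.zeroForm F) m)) ⊤ := by
  classical
  have : Fintype F := Fintype.ofFinite F
  have h := gsum_zcard h2 ha (Quad.hyp (Quad.zeroForm F) m)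
  have hq : (2 : ℤ) ≤ Fintype.card F := by exact_mod_cast Fintype.one_lt_card (α := F)
  rw [Module.natCard_eq_pow_finrank (K := F), Nat.card_eq_fintype_card] at h
  simp only [Module.finrank_prod, Module.finrank_fin_fun, add_zero, Nat.cast_pow] at h
  rcases m with _ | k
  · have hz : Quad.zcard (Quad.hyp (Quad.zeroForm F) 0) = 1 :=
      Nat.card_eq_one_iff_unique.2 ⟨⟨fun a b => Subtype.ext (Subsingleton.elim _ _)⟩, ⟨⟨0, map_zero _⟩⟩⟩
    rw [hz, Nat.cast_one, mul_one, pow_zero] at h
    by_contra hle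
    nlinarith
  · have hz := Quad.zcard_plus (F := F) rfl k
    have hz' : (Quad.zcard (Quad.hyp (Quad.zeroForm F) (k + 1)) : ℤ) + (Fintype.card F : ℤ) ^ k =
        (Fintype.card F : ℤ) ^ (2 * k + 1) + (Fintype.card F : ℤ) ^ (k + 1) := by exact_mod_cast hz
    rw [show k + 1 + (k + 1) = 2 * k + 1 + 1 by ring, pow_succ] at h
    have e : ((Fintype.card F : ℤ) - 1) * gsum (⇑(Quad.hyp (Quad.zeroForm F) (k + 1))) ⊤ =
        ((Fintype.card F : ℤ) - 1) * (Fintype.card F : ℤ) ^ (k + 1) := by
      linear_combination -h + (Fintype.card F : ℤ) * hz'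
    rw [mul_left_cancel₀ (by omega) e]
    positivity

theorem sign_minus {a b : F} (hab : ∀ z₁ z₂ : F, z₁ ^ 2 + a * z₁ * z₂ + b * z₂ ^ 2 = 0 → z₁ = 0 ∧ z₂ = 0) (k : ℕ) :
    gsum (⇑(Quad.hyp (Quad.binForm a b) k)) ⊤ < 0 := by
  classical
  have : Fintype F := Fintype.ofFinite F
  have h := gsum_zcard h2 ha (Quad.hyp (Quad.binForm a b) k)
  have hq : (2 : ℤ) ≤ Fintype.card F := by exact_mod_cast Fintype.one_lt_card (α := F)
  rw [Module.natCard_eq_pow_finrank (K := F), Nat.card_eq_fintype_card] at h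
  simp only [Module.finrank_prod, Module.finrank_fin_fun, Module.finrank_self, Nat.cast_pow] at h
  have hz := Quad.zcard_minus hab rfl k
  have hz' : (Quad.zcard (Quad.hyp (Quad.binForm a b) k) : ℤ) + (Fintype.card F : ℤ) ^ (k + 1) =
      (Fintype.card F : ℤ) ^ (2 * k + 1) + (Fintype.card F : ℤ) ^ k := by exact_mod_cast hz
  rw [show k + k + (1 + 1) = 2 * k + 1 + 1 by ring, pow_succ] at h
  have e : ((Fintype.card F : ℤ) - 1) * gsum (⇑(Quad.hyp (Quad.binForm a b) k)) ⊤ =
      ((Fintype.card F : ℤ) - 1) * -(Fintype.card F : ℤ) ^ (k + 1) := by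
    linear_combination -h + (Fintype.card F : ℤ) * hz'
  rw [mul_left_cancel₀ (by omega) e]
  simp only [Left.neg_neg_iff]
  positivity

omit [Finite F] in
theorem gsum_iso {Q : QuadraticForm F V} {Q' : QuadraticForm F W} (e : Quad.Iso Q Q') [Finite F] :
    gsum (⇑Q) ⊤ = gsum (⇑Q') ⊤ := by
  classical
  have := Module.finite_of_finite F (M := V)
  have := Module.finite_of_finite F (M := W)
  have : Fintype V := Fintype.ofFinite V
  have : Fintype W := Fintype.ofFinite W
  obtain ⟨e, he⟩ := e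
  rw [gsum_univ, gsum_univ]
  exact Fintype.sum_equiv e.toEquiv _ _ fun x => by rw [LinearEquiv.coe_toEquiv, he]

/-- Spaces of the same even dimension with Gauss sums of the same sign are isometric. -/
theorem iso_of_sign {Q : QuadraticForm F V} {Q' : QuadraticForm F W} (hQ : (polarBilin Q).Nondegenerate)
    (hQ' : (polarBilin Q').Nondegenerate) {m : ℕ} (hV : finrank F V = 2 * m) (hW : finrank F W = 2 * m)
    (hs : Int.sign (gsum (⇑Q) ⊤) = Int.sign (gsum (⇑Q') ⊤)) : Quad.Iso Q Q' := by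
  obtain ⟨ζ, hζ⟩ := Quad.exists_rootfree (F := F)
  rcases Quad.even_cases hQ hV with h | ⟨hm, h⟩ <;> rcases Quad.even_cases hQ' hW with h' | ⟨hm', h'⟩
  · exact h.symm.trans h'
  · exfalso
    have h'' := h' _ _ (Quad.rootfree_aniso hζ)
    rw [← gsum_iso h2 ha h, ← gsum_iso h2 ha h'', Int.sign_eq_one_of_pos (sign_plus h2 ha m),
      Int.sign_eq_neg_one_of_neg (sign_minus h2 ha (Quad.rootfree_aniso hζ) (m - 1))] at hs
    omega
  · exfalso
    have h'' := h _ _ (Quad.rootfree_aniso hζ)
    rw [← gsum_iso h2 ha h', ← gsum_iso h2 ha h'', Int.sign_eq_one_of_pos (sign_plus h2 ha m),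
      Int.sign_eq_neg_one_of_neg (sign_minus h2 ha (Quad.rootfree_aniso hζ) (m - 1))] at hs
    omega
  · exact (h _ _ (Quad.rootfree_aniso hζ)).symm.trans (h' _ _ (Quad.rootfree_aniso hζ))

omit [FiniteDimensional F W] in
theorem gsum_nondeg {Q : QuadraticForm F V} (hQ : (polarBilin Q).Nondegenerate) : gsum (⇑Q) ⊤ ≠ 0 :=
  have := Module.finite_of_finite F (M := V)
  gsum_ne_zero h2 ha (B := polarBilin Q) (fun x y => QuadraticMap.map_add Q x y) (q_smul Q)
    fun x _ h => hQ.1 x fun y => h y trivial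

/-! ## Realising a polynomial -/

theorem realise {g : F[X]} (hg : g.Monic) {n : ℕ} (hn : 1 ≤ n) (hd : g.natDegree = n) {Q : QuadraticForm F V}
    (hQ : (polarBilin Q).Nondegenerate) (hV : finrank F V = 2 * n)
    (hs : g.coeff 0 ≠ 0 → psi (g.coeff 1 / g.coeff 0) = Int.sign (gsum (⇑Q) ⊤)) : Real Q (g * g) := by
  classical
  -- write `g` as a power of `X` times a polynomial prime to it
  obtain ⟨g', hg', hX⟩ := exists_eq_pow_rootMultiplicity_mul_and_not_dvd g hg.ne_zero (0 : F)
  rw [map_zero, sub_zero] at hg' hX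
  obtain ⟨e, he⟩ : ∃ e, e = g.rootMultiplicity 0 := ⟨_, rfl⟩
  rw [← he] at hg'
  have hg'm : g'.Monic := (monic_X_pow e).of_mul_monic_left (hg' ▸ hg)
  have hg'0 : g'.coeff 0 ≠ 0 := fun h => hX (X_dvd_iff.2 h)
  have hdeg : e + g'.natDegree = n := by
    rw [← hd, hg', (monic_X_pow e).natDegree_mul hg'm, natDegree_X_pow]
  haveI := hg'm.finite_adjoinRoot
  haveI : Finite (AdjoinRoot g') := Module.finite_of_finite F
  obtain ⟨r, hr⟩ : ∃ r, AdjoinRoot.root g' * r = 1 := by
    refine ⟨-AdjoinRoot.mk g' (g'.divX * C (g'.coeff 0)⁻¹), ?_⟩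
    rw [← AdjoinRoot.mk_X, ← map_neg, ← map_mul, ← map_one (AdjoinRoot.mk g'), AdjoinRoot.mk_eq_mk]
    refine ⟨-C (g'.coeff 0)⁻¹, ?_⟩
    have hC : C (g'.coeff 0) * C (g'.coeff 0)⁻¹ = 1 := by rw [← map_mul, mul_inv_cancel₀ hg'0, map_one]
    linear_combination (-C (g'.coeff 0)⁻¹) * X_mul_divX_add g' + hC
  have hM := mform_nondeg hg'm h2 hr
  have hMr : Real (mform hg'm) (g' * g') := ⟨mmap, mmap_preserves hg'm h2, mmap_charpoly hg'm h2⟩
  have hMd := finrank_model hg'm
  rcases Nat.eq_zero_or_pos e with rfl | he0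
  · rw [pow_zero, one_mul] at hg'
    subst hg'
    refine hMr.of_iso (iso_of_sign h2 ha hM hQ (hMd.trans (by rw [hd])) hV ?_)
    rw [mform_gsum hg'm h2 ha (by omega) hg'0, Int.sign_mul, Int.sign_natCast_of_ne_zero Nat.card_pos.ne', one_mul,
      hs hg'0, Int.sign_sign]
  · obtain ⟨ζ, hζ⟩ := Quad.exists_rootfree (F := F)
    have hMs := gsum_nondeg h2 ha hM
    have hQs := gsum_nondeg h2 ha hQ
    have key : ∀ {U : Type u} [AddCommGroup U] [Module F U] [FiniteDimensional F U] (R : QuadraticForm F U),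
        (polarBilin R).Nondegenerate → finrank F U = 2 * e →
        Int.sign (gsum (⇑(mform hg'm)) ⊤) * Int.sign (gsum (⇑R) ⊤) = Int.sign (gsum (⇑Q) ⊤) → Real Q (g * g) := by
      intro U _ _ _ R hR hU hsgn
      have h := hMr.prod (real_one h2 R)
      rw [hU, show g' * g' * X ^ (2 * e) = g * g by rw [hg']; ring] at h
      refine h.of_iso (iso_of_sign h2 ha (nondeg_prod hM hR) hQ (m := n) ?_ hV ?_)
      · rw [Module.finrank_prod, hMd, hU]; omega
      · rw [gsum_prod h2 ha, Int.sign_mul, hsgn]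
    by_cases hsame : Int.sign (gsum (⇑(mform hg'm)) ⊤) = Int.sign (gsum (⇑Q) ⊤)
    · refine key (Quad.hyp (Quad.zeroForm F) e) (Quad.nondeg_hyp Quad.nondeg_zeroForm e) ?_ ?_
      · simp [Module.finrank_prod, two_mul]
      · rw [Int.sign_eq_one_of_pos (sign_plus h2 ha e), mul_one, hsame]
    · refine key (Quad.hyp (Quad.binForm 1 ζ) (e - 1))
        (Quad.nondeg_hyp (Quad.nondeg_binForm (Quad.rootfree_aniso hζ)) _) ?_ ?_
      · simp only [Module.finrank_prod, Module.finrank_fin_fun, Module.finrank_self]; omega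
      · rw [Int.sign_eq_neg_one_of_neg (sign_minus h2 ha (Quad.rootfree_aniso hζ) _)]
        have hS : ∀ z : ℤ, z ≠ 0 → z.sign = 1 ∨ z.sign = -1 := fun z hz => (lt_or_gt_of_ne hz).elim
          (fun h => .inr (Int.sign_eq_neg_one_of_neg h)) fun h => .inl (Int.sign_eq_one_of_pos h)
        rcases hS _ hMs with h1 | h1 <;> rcases hS _ hQs with h3 | h3 <;> rw [h1, h3] at hsame ⊢ <;>
          simp at hsame ⊢

/-! ## The count -/

omit ha in
/-- The class number of an orthogonal group in dimension `2n`, `q` even, is at least half of `q ^ n`. -/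
theorem pow_le_two_mul_card_conjClasses [Fintype F] {ι : Type} [Fintype ι] [DecidableEq ι]
    (Q : QuadraticForm F (ι → F)) (hnd : (polarBilin Q).Nondegenerate) {n : ℕ} (hn : 2 ≤ n)
    (hι : Fintype.card ι = 2 * n) :
    Fintype.card F ^ n ≤ 2 * Nat.card (ConjClasses (Cfsg.isometryGroup F ⇑Q)) := by
  classical
  obtain ⟨a₀, ha⟩ := exists_asRep (F := F) h2
  set G := Cfsg.isometryGroup F ⇑Q
  have hdim : finrank F (ι → F) = 2 * n := (Module.finrank_fintype_fun_eq_card F).trans hι
  obtain ⟨s, hs⟩ : ∃ s, s = Int.sign (gsum (⇑Q) ⊤) := ⟨_, rfl⟩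
  have hs1 : s = 1 ∨ s = -1 := by
    rcases lt_or_gt_of_ne (gsum_nondeg h2 ha hnd) with h | h
    · exact .inr (hs.trans (Int.sign_eq_neg_one_of_neg h))
    · exact .inl (hs.trans (Int.sign_eq_one_of_pos h))
  let i0 : Fin n := ⟨0, by omega⟩
  let i1 : Fin n := ⟨1, by omega⟩
  have hi : i0 ≠ i1 := by simp [i0, i1]
  let S := {c : Fin n → F // c i0 ≠ 0 → psi (c i1 / c i0) = s}
  let flip : (Fin n → F) → Fin n → F := fun c => Function.update c i1 (c i1 + a₀ * c i0)
  have hflip : ∀ c, ¬(c i0 ≠ 0 → psi (c i1 / c i0) = s) → (flip c i0 ≠ 0 → psi (flip c i1 / flip c i0) = s) := by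
    intro c hc h0
    rw [Classical.not_imp] at hc
    obtain ⟨hc0, hc⟩ := hc
    simp only [flip, Function.update_self, Function.update_of_ne hi]
    rw [add_div, mul_div_cancel_right₀ _ hc0, psi_add h2 ha, psi_rep ha]
    have : psi (c i1 / c i0) = 1 ∨ psi (c i1 / c i0) = -1 := by unfold psi; split_ifs <;> simp
    rcases hs1 with h | h <;> rcases this with h' | h' <;> rw [h, h'] at hc <;> rw [h, h'] <;> omega
  have hinv : ∀ c, flip (flip c) = c := fun c => by
    funext i
    by_cases h : i = i1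
    · subst h
      simp only [flip, Function.update_self, Function.update_of_ne hi]
      linear_combination a₀ * c i0 * h2
    · simp [flip, Function.update_of_ne h]
  have hcount : Fintype.card F ^ n ≤ 2 * Nat.card S := by
    rw [show Fintype.card F ^ n = Nat.card (Fin n → F) by simp [Nat.card_fun],
      show 2 * Nat.card S = Nat.card (Bool × S) by simp [Nat.card_prod]]
    refine Nat.card_le_card_of_injective (fun c =>
      if h : c i0 ≠ 0 → psi (c i1 / c i0) = s then (true, (⟨c, h⟩ : S)) else (false, ⟨flip c, hflip c h⟩)) ?_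
    intro c d h
    dsimp only at h
    split_ifs at h
    · exact congrArg (fun x : Bool × S => x.2.1) h
    · simp at h
    · simp at h
    · exact (hinv c).symm.trans ((congrArg (fun x : Bool × S => flip x.2.1) h).trans (hinv d))
  -- polynomials
  let P : (Fin n → F) → F[X] := fun c => X ^ n + ∑ i : Fin n, monomial i.val (c i)
  have hP : ∀ c, (P c).Monic ∧ (P c).natDegree = n ∧ ∀ i : Fin n, (P c).coeff i = c i := by
    intro c
    have hlt : (∑ i : Fin n, monomial i.val (c i)).degree < (n : ℕ) :=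
      (degree_sum_le _ _).trans_lt ((Finset.sup_lt_iff (WithBot.bot_lt_coe _)).2 fun l _ =>
        (degree_monomial_le _ _).trans_lt (Nat.cast_lt.2 l.isLt))
    refine ⟨monic_X_pow_add hlt, ?_, fun i => ?_⟩
    · refine natDegree_eq_of_degree_eq_some ?_
      rw [degree_add_eq_left_of_degree_lt (by rwa [degree_X_pow]), degree_X_pow]
    · simp [P, coeff_X_pow, coeff_monomial, i.isLt.ne, Fin.val_inj]
  have hreal : ∀ c : S, ∃ A : G, ((Quad.oEquiv Q A).1.toLinearMap + (Quad.oEquiv Q A).1.symm.toLinearMap).charpoly =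
      P c.1 * P c.1 := by
    intro c
    obtain ⟨φ, hφ, hchar⟩ := realise h2 ha (hP c.1).1 (show 1 ≤ n by omega) (hP c.1).2.1 hnd hdim fun h0 => by
      have e0 := (hP c.1).2.2 i0
      have e1 := (hP c.1).2.2 i1
      simp only [i0, i1] at e0 e1
      rw [e0] at h0 ⊢
      rw [e1, ← hs]
      exact c.2 h0
    refine ⟨(Quad.oEquiv Q).symm ⟨φ, hφ⟩, ?_⟩
    rw [MulEquiv.apply_symm_apply]
    exact hchar
  choose A hA using hreal
  have hinj : Function.Injective fun c : S => ConjClasses.mk (A c) := by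
    intro c d h
    obtain ⟨U, hU⟩ := isConj_iff.1 ((Quad.oEquiv Q).toMonoidHom.map_isConj (ConjClasses.mk_eq_mk_iff_isConj.1 h))
    have e : P c.1 * P c.1 = P d.1 * P d.1 := by
      rw [← hA c, ← hA d]
      simp only [MulEquiv.coe_toMonoidHom] at hU
      rw [← hU, ← LinearEquiv.charpoly_conj U.1]
      congr 1
      refine LinearMap.ext fun x => ?_
      simp only [Subgroup.coe_mul, Subgroup.coe_inv, LinearEquiv.conj_apply, LinearMap.comp_apply,
        LinearMap.add_apply, LinearEquiv.coe_coe, map_add]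
      rfl
    have h3 : P c.1 = P d.1 := by
      have h4 : (P c.1 - P d.1) * (P c.1 - P d.1) = 0 := by
        have h2' : (2 : F[X]) = 0 := by rw [← map_ofNat C 2, h2, map_zero]
        linear_combination e + (P d.1 * P d.1 - P c.1 * P d.1) * h2'
      exact sub_eq_zero.1 (mul_self_eq_zero.1 h4)
    refine Subtype.ext (funext fun i => ?_)
    rw [← (hP c.1).2.2 i, ← (hP d.1).2.2 i, h3]
  exact hcount.trans (Nat.mul_le_mul_left 2 (Nat.card_le_card_of_injective _ hinj))

end Cfsg.Agent.OrthEven
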