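import Cfsg.Agent.OrthEven.Gauss
import Cfsg.Agent.Classical.QuadTypes

/-!
# Isometries with a prescribed polynomial

On `R × R`, with `R = F[X] ⧸ (g)` and `τ` the top coefficient, the form `τ (u² + u v y + v²)` is preserved by
`(u, v) ↦ (v, u + v y)`, and the sum of this map and its inverse is the multiplication by `y`.
-/

set_option autoImplicit false

namespace Cfsg.Agent.OrthEven

open Module Polynomial
open Cfsg.Agent.SympTwo

universe u

variable {F : Type u} [Field F] {g : F[X]} (hg : g.Monic)

/-- The top coefficient of the reduced representative. -/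
noncomputable def tau : AdjoinRoot g →ₗ[F] F :=
  (lcoeff F (g.natDegree - 1)).comp (AdjoinRoot.modByMonicHom hg)

theorem tau_mk (f : F[X]) : tau hg (AdjoinRoot.mk g f) = (f %ₘ g).coeff (g.natDegree - 1) := by
  rw [tau, LinearMap.comp_apply, AdjoinRoot.modByMonicHom_mk, lcoeff_apply]

theorem tau_sep (x : AdjoinRoot g) (h : ∀ t, tau hg (x * t) = 0) : x = 0 := by
  obtain ⟨f, rfl⟩ := AdjoinRoot.mk_surjective x
  rw [AdjoinRoot.mk_eq_zero, ← modByMonic_eq_zero_iff_dvd hg]
  by_contra h0
  have hlt : (f %ₘ g).natDegree < g.natDegree := natDegree_lt_natDegree h0 (degree_modByMonic_lt f hg)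
  set r := f %ₘ g with hr
  have h1 := h (AdjoinRoot.mk g (X ^ (g.natDegree - 1 - r.natDegree)))
  have e : AdjoinRoot.mk g f = AdjoinRoot.mk g r := by
    rw [AdjoinRoot.mk_eq_mk, hr, modByMonic_eq_sub_mul_div, sub_sub_cancel]
    exact dvd_mul_right _ _
  rw [e, ← map_mul, tau_mk, (modByMonic_eq_self_iff hg).2] at h1
  · rw [show g.natDegree - 1 = r.natDegree + (g.natDegree - 1 - r.natDegree) by omega] at h1
    rw [Nat.add_sub_cancel_left, coeff_mul_X_pow] at h1
    exact h0 (leadingCoeff_eq_zero.1 h1)
  · refine degree_lt_degree ?_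
    rw [natDegree_mul_X_pow _ h0]
    omega

/-- The bilinear map behind the form. -/
noncomputable def mbil : LinearMap.BilinMap F (AdjoinRoot g × AdjoinRoot g) F :=
  LinearMap.mk₂ F (fun p p' => tau hg (p.1 * p'.1 + AdjoinRoot.root g * p.1 * p'.2 + p.2 * p'.2))
    (fun a b c => by rw [← map_add]; congr 1; simp only [Prod.fst_add, Prod.snd_add]; ring)
    (fun t a c => by
      rw [← map_smul]; congr 1
      simp only [Prod.smul_fst, Prod.smul_snd]; simp only [Algebra.smul_def]; ring)
    (fun a b c => by rw [← map_add]; congr 1; simp only [Prod.fst_add, Prod.snd_add]; ring)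
    (fun t a c => by
      rw [← map_smul]; congr 1
      simp only [Prod.smul_fst, Prod.smul_snd]; simp only [Algebra.smul_def]; ring)

/-- The form of the model. -/
noncomputable def mform : QuadraticForm F (AdjoinRoot g × AdjoinRoot g) := (mbil hg).toQuadraticMap

theorem mform_apply (u v : AdjoinRoot g) :
    mform hg (u, v) = tau hg (u * u + AdjoinRoot.root g * u * v + v * v) := rfl

variable (h2 : (2 : F) = 0)

include h2 in
theorem two_adjoinRoot : (2 : AdjoinRoot g) = 0 := by
  rw [← map_ofNat (algebraMap F (AdjoinRoot g)) 2, h2, map_zero]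

include h2 in
theorem mform_nondeg {r : AdjoinRoot g} (hr : AdjoinRoot.root g * r = 1) :
    (QuadraticMap.polarBilin (mform hg)).Nondegenerate := by
  refine Classical.Quad.nondeg_of fun p hp => ?_
  have key : ∀ q : AdjoinRoot g × AdjoinRoot g,
      tau hg (AdjoinRoot.root g * p.1 * q.2 + AdjoinRoot.root g * q.1 * p.2) = 0 := fun q => by
    have := hp q
    rw [mform, LinearMap.BilinMap.polar_toQuadraticMap] at this
    simp only [mbil, LinearMap.mk₂_apply, ← map_add] at this
    rw [← this]
    congr 1
    linear_combination (- p.1 * q.1 - p.2 * q.2) * two_adjoinRoot (g := g) h2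
  refine Prod.ext (tau_sep hg _ fun t => ?_) (tau_sep hg _ fun t => ?_)
  · have := key (0, r * t)
    simp only [mul_zero, zero_mul, add_zero] at this
    rw [← this]; congr 1
    linear_combination (- p.1 * t) * hr
  · have := key (r * t, 0)
    simp only [mul_zero, zero_add] at this
    rw [← this]; congr 1
    linear_combination (- p.2 * t) * hr

/-- The isometry of the model. -/
noncomputable def mmap : (AdjoinRoot g × AdjoinRoot g) ≃ₗ[F] (AdjoinRoot g × AdjoinRoot g) where
  toFun p := (p.2, p.1 + AdjoinRoot.root g * p.2)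
  map_add' p q := by simp only [Prod.fst_add, Prod.snd_add, Prod.mk_add_mk]; congr 1; ring
  map_smul' c p := by
    simp only [Prod.smul_fst, Prod.smul_snd, Prod.smul_mk, RingHom.id_apply, smul_add, mul_smul_comm]
  invFun p := (p.2 - AdjoinRoot.root g * p.1, p.1)
  left_inv p := by simp
  right_inv p := by simp

include h2 in
theorem mmap_preserves (p : AdjoinRoot g × AdjoinRoot g) : mform hg (mmap p) = mform hg p := by
  show mform hg (p.2, p.1 + AdjoinRoot.root g * p.2) = mform hg (p.1, p.2)
  rw [mform_apply, mform_apply]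
  congr 1
  linear_combination ((AdjoinRoot.root g * p.2) ^ 2 + AdjoinRoot.root g * p.1 * p.2) * two_adjoinRoot (g := g) h2

include hg h2 in
theorem mmap_charpoly [Module.Finite F (AdjoinRoot g)] :
    LinearMap.charpoly ((mmap (g := g)).toLinearMap + (mmap (g := g)).symm.toLinearMap) = g * g := by
  have e : (mmap (g := g)).toLinearMap + (mmap (g := g)).symm.toLinearMap =
      (LinearMap.mulLeft F (AdjoinRoot.root g)).prodMap (LinearMap.mulLeft F (AdjoinRoot.root g)) :=
    LinearMap.ext fun p => by
      show (p.2, p.1 + AdjoinRoot.root g * p.2) + (p.2 - AdjoinRoot.root g * p.1, p.1) = _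
      simp only [LinearMap.prodMap_apply, LinearMap.mulLeft_apply, Prod.mk_add_mk, Prod.mk.injEq]
      exact ⟨by linear_combination (p.2 - AdjoinRoot.root g * p.1) * two_adjoinRoot (g := g) h2,
        by linear_combination p.1 * two_adjoinRoot (g := g) h2⟩
  rw [e, LinearMap.charpoly_prodMap]
  have h1 : (LinearMap.mulLeft F (AdjoinRoot.root g)).charpoly = g := by
    rw [← LinearMap.charpoly_toMatrix _ (AdjoinRoot.powerBasis' hg).basis, Algebra.toMatrix_lmul_eq,
      ← AdjoinRoot.powerBasis'_gen hg, charpoly_leftMulMatrix, AdjoinRoot.powerBasis'_gen hg,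
      AdjoinRoot.minpoly_root hg.ne_zero, hg.leadingCoeff, inv_one, map_one, mul_one]
  rw [h1]

include hg in
theorem finrank_model : finrank F (AdjoinRoot g × AdjoinRoot g) = 2 * g.natDegree := by
  have := hg.finite_adjoinRoot
  rw [Module.finrank_prod, (AdjoinRoot.powerBasis' hg).finrank, AdjoinRoot.powerBasis'_dim]
  ring

/-! ## The sign -/

include hg h2 in
/-- The top coefficient of a square is the square of that of a product with a root of the derivative. -/
theorem tau_square {e : F[X]} (he : e * e = derivative g) (u : F[X]) :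
    tau hg (AdjoinRoot.mk g (u * u)) = tau hg (AdjoinRoot.mk g (e * u)) ^ 2 := by
  rcases Nat.eq_zero_or_pos g.natDegree with hd | hd
  · have h1 : g = 1 := hg.natDegree_eq_zero.1 hd
    subst h1
    rw [tau_mk, tau_mk, modByMonic_one, modByMonic_one]
    simp
  have h2' : (2 : F[X]) = 0 := by rw [← map_ofNat C 2, h2, map_zero]
  rw [tau_mk, tau_mk]
  set d := g.natDegree with hd'
  obtain ⟨r, hr⟩ : ∃ r, r = (u * u) %ₘ g := ⟨_, rfl⟩
  obtain ⟨w, hw⟩ : ∃ w, w = (e * u) %ₘ g := ⟨_, rfl⟩
  rw [← hr, ← hw]
  obtain ⟨q, hq⟩ : ∃ q, u * u = r + g * q := ⟨_, hr ▸ (modByMonic_add_div (u * u) g).symm⟩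
  obtain ⟨p, hp⟩ : ∃ p, e * u = w + g * p := ⟨_, hw ▸ (modByMonic_add_div (e * u) g).symm⟩
  have hlt : ∀ f : F[X], (f %ₘ g).natDegree ≤ d - 1 := fun f => by
    have := natDegree_modByMonic_lt f hg (fun h => by rw [h, natDegree_one] at hd'; omega)
    omega
  have hrd : r.natDegree ≤ d - 1 := hr ▸ hlt _
  have hwd : w.natDegree ≤ d - 1 := hw ▸ hlt _
  have hder : derivative r + derivative g * q + g * derivative q = 0 := by
    have := congrArg derivative hq
    rw [derivative_mul, derivative_add, derivative_mul] at this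
    linear_combination -this + (derivative u * u) * h2'
  have key : w * w + derivative (r * g) = g * g * (derivative q + p * p) := by
    rw [derivative_mul]
    linear_combination (derivative g) * hq + g * hder - (e * u + w + g * p) * hp - u * u * he +
      (-(w * g * p) - g * g * p * p - g * g * derivative q + r * derivative g - derivative g * u * u +
        e * e * u * u) * h2'
  have hle : (w * w + derivative (r * g)).natDegree ≤ 2 * d - 2 := by
    refine (natDegree_add_le _ _).trans (max_le (natDegree_mul_le.trans (by omega)) ?_)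
    exact (natDegree_derivative_le _).trans (by have := natDegree_mul_le (p := r) (q := g); omega)
  have hz : derivative q + p * p = 0 := by
    by_contra hne
    have h1 := (hg.mul hg).natDegree_mul' hne
    rw [← key, hg.natDegree_mul hg] at h1
    omega
  rw [hz, mul_zero] at key
  have h3 := congrArg (fun f => coeff f (2 * (d - 1))) key
  simp only [coeff_add, coeff_zero, coeff_derivative] at h3
  rw [show 2 * (d - 1) = (d - 1) + (d - 1) by ring, coeff_mul_add_eq_of_natDegree_le hwd hwd,
    show d - 1 + (d - 1) + 1 = (d - 1) + d by omega,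
    coeff_mul_add_eq_of_natDegree_le hrd (le_of_eq hd'.symm), hd', hg.coeff_natDegree, mul_one] at h3
  rw [← hd'] at h3
  push_cast at h3
  linear_combination (-1 : F) * h3 + ((d - 1 : ℕ) * r.coeff (d - 1) + r.coeff (d - 1)) * h2

include hg h2 in
theorem exists_root_derivative [Finite F] : ∃ e : F[X], e * e = derivative g := by
  classical
  choose s hs using fun c : F => exists_sqrt h2 c
  have : CharP F 2 := CharTwo.of_one_ne_zero_of_two_eq_zero one_ne_zero h2
  refine ⟨∑ i ∈ Finset.range (g.natDegree + 1), monomial i (s ((derivative g).coeff (2 * i))), ?_⟩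
  rw [← sq, CharTwo.sum_sq]
  ext k
  rw [finset_sum_coeff]
  simp only [sq, monomial_mul_monomial, coeff_monomial]
  rcases Nat.even_or_odd' k with ⟨j, rfl | rfl⟩
  · rw [Finset.sum_eq_single j (fun i _ hi => by rw [if_neg (by omega)]) fun hj => by
      rw [if_pos (by omega), ← sq, hs]
      refine coeff_eq_zero_of_natDegree_lt ?_
      have := natDegree_derivative_le g
      simp only [Finset.mem_range, not_lt] at hj
      omega]
    rw [if_pos (by omega), ← sq, hs]
  · rw [Finset.sum_eq_zero fun i _ => by rw [if_neg (by omega)], coeff_derivative]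
    push_cast
    linear_combination -(g.coeff (2 * j + 1 + 1) * (j + 1)) * h2

include hg h2 in
theorem mform_gsum [Finite F] [Finite (AdjoinRoot g)] {a₀ : F} (ha : IsASRep a₀) (hd : 1 ≤ g.natDegree)
    (h0 : g.coeff 0 ≠ 0) :
    gsum (⇑(mform hg)) ⊤ = Nat.card (AdjoinRoot g) * psi (g.coeff 1 / g.coeff 0) := by
  classical
  have : Fintype (AdjoinRoot g) := Fintype.ofFinite _
  have hR2 := two_adjoinRoot (g := g) h2
  obtain ⟨e, he⟩ := exists_root_derivative hg h2
  obtain ⟨η, hη⟩ : ∃ η, η = AdjoinRoot.mk g e := ⟨_, rfl⟩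
  have hsq : ∀ u, psi (tau hg (u * u)) = psi (tau hg (η * u)) := fun u => by
    obtain ⟨u, rfl⟩ := AdjoinRoot.mk_surjective u
    rw [hη, ← map_mul, ← map_mul, tau_square hg h2 he, psi_sq h2]
  -- the inverse of the root
  obtain ⟨c, hc⟩ : ∃ c, c = g.coeff 1 / g.coeff 0 := ⟨_, rfl⟩
  obtain ⟨W, hW⟩ : ∃ W, W = (derivative g + C c * g).divX := ⟨_, rfl⟩
  have hW0 : (derivative g + C c * g).coeff 0 = 0 := by
    rw [coeff_add, coeff_derivative, coeff_C_mul, hc, div_mul_cancel₀ _ h0]
    push_cast
    linear_combination g.coeff 1 * h2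
  have hXW : X * W = derivative g + C c * g := by
    conv_rhs => rw [← X_mul_divX_add (derivative g + C c * g), hW0, map_zero, add_zero]
    rw [hW]
  have hWdeg : W.natDegree < g.natDegree := by
    have h1 : (derivative g + C c * g).natDegree ≤ g.natDegree :=
      (natDegree_add_le _ _).trans (max_le ((natDegree_derivative_le g).trans (Nat.sub_le _ _))
        (natDegree_C_mul_le c g))
    rw [hW, natDegree_divX_eq_natDegree_tsub_one]
    omega
  have htauW : tau hg (AdjoinRoot.mk g W) = c := by
    rw [tau_mk, (modByMonic_eq_self_iff hg).2 (degree_lt_degree hWdeg), hW, coeff_divX,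
      Nat.sub_add_cancel hd, coeff_add, coeff_C_mul, hg.coeff_natDegree, mul_one, coeff_derivative,
      coeff_eq_zero_of_natDegree_lt (show g.natDegree < g.natDegree + 1 by omega), zero_mul, zero_add]
  obtain ⟨r, hr⟩ : ∃ r, r = AdjoinRoot.mk g (g.divX * C (g.coeff 0)⁻¹) := ⟨_, rfl⟩
  have hyr : AdjoinRoot.root g * r = 1 := by
    rw [hr, ← AdjoinRoot.mk_X, ← map_mul, ← map_one (AdjoinRoot.mk g), AdjoinRoot.mk_eq_mk]
    refine ⟨C (g.coeff 0)⁻¹, ?_⟩
    have hC : C (g.coeff 0) * C (g.coeff 0)⁻¹ = 1 := by rw [← map_mul, mul_inv_cancel₀ h0, map_one]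
    have h2' : (2 : F[X]) = 0 := by rw [← map_ofNat C 2, h2, map_zero]
    linear_combination (C (g.coeff 0)⁻¹) * X_mul_divX_add g - hC + (-1 : F[X]) * h2'
  -- evaluate
  have key : ∀ u v, psi (mform hg (u, v)) =
      psi (tau hg ((η + AdjoinRoot.root g * v) * u)) * psi (tau hg (η * v)) := fun u v => by
    rw [mform_apply, map_add, map_add, psi_add h2 ha, psi_add h2 ha, hsq, hsq, ← psi_add h2 ha, ← map_add,
      show η * u + AdjoinRoot.root g * u * v = (η + AdjoinRoot.root g * v) * u by ring]
  rw [gsum, finsum_eq_sum_of_fintype,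
    Fintype.sum_equiv Submodule.topEquiv.toEquiv (fun x : (⊤ : Submodule F (AdjoinRoot g × AdjoinRoot g)) =>
      psi (mform hg x.1)) (fun p => psi (mform hg p)) fun x => rfl,
    Fintype.sum_prod_type, Finset.sum_comm]
  simp only [key, ← Finset.sum_mul]
  rw [Finset.sum_eq_single (r * η) (fun v _ hv => ?_) fun h => absurd (Finset.mem_univ _) h]
  · have hz : η + AdjoinRoot.root g * (r * η) = 0 := by linear_combination η * hyr + η * hR2
    rw [hz]
    simp only [zero_mul, map_zero, psi_zero, Finset.sum_const, Finset.card_univ, nsmul_one,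
      Nat.card_eq_fintype_card]
    have hval : η * (r * η) = AdjoinRoot.mk g W := by
      have e1 : AdjoinRoot.root g * AdjoinRoot.mk g W = η * η := by
        rw [hη, ← AdjoinRoot.mk_X, ← map_mul, ← map_mul, hXW, he, map_add, map_mul _ (C c),
          AdjoinRoot.mk_self, mul_zero, add_zero]
      linear_combination (-r) * e1 + AdjoinRoot.mk g W * hyr
    rw [hval, htauW, hc]
  · have hne : η + AdjoinRoot.root g * v ≠ 0 := fun h => hv (by
      linear_combination r * h - v * hyr - (η * r) * hR2)
    obtain ⟨t, ht⟩ : ∃ t, tau hg ((η + AdjoinRoot.root g * v) * t) ≠ 0 := by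
      by_contra! h
      exact hne (tau_sep hg _ h)
    have := sum_psi_eq_zero h2 ha ((tau hg).comp (LinearMap.mulLeft F (η + AdjoinRoot.root g * v))) (w := t) ht
    simp only [LinearMap.comp_apply, LinearMap.mulLeft_apply] at this
    rw [this, zero_mul]

end Cfsg.Agent.OrthEven
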